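import Groth.Agent.Lib.RegUFD.Basic
import Mathlib.RingTheory.Ideal.Height
import Mathlib.RingTheory.Ideal.Operations

/-!
# Ideals without socle in a regular local ring of dimension two are principal
-/

set_option autoImplicit false
set_option linter.all false

universe u

open IsLocalRing

namespace GrothLib.NormBlow29

/-- A prime ideal containing no smaller nonzero prime but itself, in dimension two. -/
theorem exists_prime_span {R : Type u} [CommRing R] [IsDomain R] [IsLocalRing R] [IsNoetherianRing R]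
    [UniqueFactorizationMonoid R]
    (hdim : ringKrullDim R ≤ 2) {Q : Ideal R} [hQ : Q.IsPrime] (hQ0 : Q ≠ ⊥) (hQm : Q ≠ maximalIdeal R) :
    ∃ p : R, Prime p ∧ Q = Ideal.span {p} := by
  obtain ⟨p, hpQ, hp⟩ := hQ.exists_mem_prime_of_ne_bot hQ0
  refine ⟨p, hp, ?_⟩
  by_contra hne
  haveI : (Ideal.span {p}).IsPrime := (Ideal.span_singleton_prime hp.ne_zero).2 hp
  have hlt : Ideal.span {p} < Q :=
    lt_of_le_of_ne ((Ideal.span_singleton_le_iff_mem _).2 hpQ) (Ne.symm hne)
  have h0 : (⊥ : Ideal R) < Ideal.span {p} :=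
    bot_lt_iff_ne_bot.2 (by rw [Ne, Ideal.span_singleton_eq_bot]; exact hp.ne_zero)
  have h1 := Ideal.height_add_one_le_of_lt_of_isPrime hlt
  have hQlt : Q < maximalIdeal R := lt_of_le_of_ne (IsLocalRing.le_maximalIdeal hQ.ne_top) hQm
  have h2 := Ideal.height_add_one_le_of_lt_of_isPrime hQlt
  have h3 := Ideal.height_add_one_le_of_lt_of_isPrime h0
  have hm : (maximalIdeal R).height ≤ 2 := by
    have := IsLocalRing.maximalIdeal_height_eq_ringKrullDim (R := R)
    rw [← this] at hdim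
    exact WithBot.coe_le_coe.1 (hdim : _ ≤ ((2 : ℕ∞) : WithBot ℕ∞))
  rw [Ideal.height_bot, zero_add] at h3
  have e2 : (2 : ℕ∞) + 1 ≤ 2 :=
    ((add_le_add (((add_le_add h3 le_rfl).trans h1)) le_rfl).trans h2).trans hm
  norm_num at e2

/-- An ideal of a two-dimensional regular local ring without socle is principal. -/
theorem isPrincipal_of_no_socle {R : Type u} [CommRing R] [IsDomain R] [IsRegularLocalRing R]
    (hdim : ringKrullDim R ≤ 2) (I : Ideal R)
    (h : ∀ s, (∀ m ∈ maximalIdeal R, m * s ∈ I) → s ∈ I) : I.IsPrincipal := by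
  haveI := GrothLib.RegUFD.ufd_of_isRegularLocalRing R
  rcases eq_or_ne I ⊥ with rfl | hI0
  · exact bot_isPrincipal
  obtain ⟨J, ⟨c, hc, hIJ⟩, hmax⟩ := (wellFounded_gt (α := Ideal R)).has_min
    {J : Ideal R | ∃ c : R, c ≠ 0 ∧ I = Ideal.span {c} * J} ⟨I, 1, one_ne_zero, by simp⟩
  by_cases hJ : J = ⊤
  · exact ⟨⟨c, by rw [hIJ, hJ, Ideal.mul_top]⟩⟩
  have hJ0 : J ≠ ⊥ := fun h0 => hI0 (by rw [hIJ, h0, Ideal.mul_bot])
  have hprimes : ∀ Q : Ideal R, J ≤ Q → Q.IsPrime → Q = maximalIdeal R := by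
    intro Q hle hQ
    by_contra hQm
    obtain ⟨p, hp, rfl⟩ := exists_prime_span hdim (fun h0 => hJ0 (le_bot_iff.1 (h0 ▸ hle))) hQm
    obtain ⟨J', rfl⟩ : ∃ J', J = Ideal.span {p} * J' := ⟨J.colon {p}, le_antisymm (fun x hx => by
      obtain ⟨y, rfl⟩ := Ideal.mem_span_singleton'.1 (hle hx)
      rw [mul_comm y p]
      exact Ideal.mul_mem_mul (Ideal.mem_span_singleton_self p)
        (Submodule.mem_colon_singleton.2 (by simpa [smul_eq_mul] using hx))) (Ideal.mul_le.2 fun a ha b hb => by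
      obtain ⟨y, rfl⟩ := Ideal.mem_span_singleton'.1 ha
      have := Submodule.mem_colon_singleton.1 hb
      simp only [smul_eq_mul] at this
      have e : y * p * b = y * (b * p) := by ring
      rw [e]
      exact Ideal.mul_mem_left _ _ this)⟩
    refine hmax J' ⟨c * p, mul_ne_zero hc hp.ne_zero,
      by rw [hIJ, ← mul_assoc, Ideal.span_singleton_mul_span_singleton]⟩ ?_
    refine lt_of_le_of_ne Ideal.mul_le_right fun he => hJ0 ?_
    rw [he]
    refine Submodule.eq_bot_of_le_smul_of_le_jacobson_bot (Ideal.span {p}) J' (IsNoetherian.noetherian _) ?_ ?_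
    · rw [smul_eq_mul]; exact he.ge
    · rw [IsLocalRing.jacobson_eq_maximalIdeal ⊥ bot_ne_top, Ideal.span_singleton_le_iff_mem]
      exact (IsLocalRing.mem_maximalIdeal _).2 hp.not_isUnit
  have hrad : maximalIdeal R ≤ J.radical := by
    rw [Ideal.radical_eq_sInf]
    exact le_sInf fun Q hQ => (hprimes Q hQ.1 hQ.2).ge
  classical
  have hex : ∃ n, maximalIdeal R ^ n ≤ J := Ideal.exists_pow_le_of_le_radical_of_fg hrad (IsNoetherian.noetherian _)
  have hn := Nat.find_spec hex
  obtain ⟨k, hk⟩ : ∃ k, Nat.find hex = k + 1 := Nat.exists_eq_succ_of_ne_zero fun h0 => hJ (by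
    rw [h0, pow_zero, Ideal.one_eq_top] at hn
    exact top_le_iff.1 hn)
  obtain ⟨e, he, heJ⟩ := SetLike.not_le_iff_exists.1 (Nat.find_min hex (show k < Nat.find hex by omega))
  have hs : c * e ∈ I := h (c * e) fun m hm => by
    rw [hIJ, mul_left_comm]
    refine Ideal.mul_mem_mul (Ideal.mem_span_singleton_self c) (hn ?_)
    rw [hk, pow_succ']
    exact Ideal.mul_mem_mul hm he
  rw [hIJ, Ideal.mem_span_singleton_mul] at hs
  obtain ⟨e', he', hee⟩ := hs
  exact absurd (mul_left_cancel₀ hc hee ▸ he') heJ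

end GrothLib.NormBlow29
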