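import Groth.Agent.Lib.NormBlow29.Core
import Groth.Agent.Lib.NormDom29.Main
import Groth.Agent.Lib.RatSing29.Separate
import Groth.Agent.Lib.ArSurf29.MinimalEngine
import Groth.Agent.Lib.WeilExt.Extend
import Groth.Agent.S7338

/-!
# The ideal of a point with a contracted curve becomes invertible on regular modifications
-/

set_option autoImplicit false
set_option linter.all false
set_option backward.isDefEq.respectTransparency false

universe u

open CategoryTheory CategoryTheory.Limits AlgebraicGeometry TopologicalSpace IsLocalRing Opposite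
open GrothLib.CartierDescent

noncomputable section

namespace GrothLib.NormBlow29

/-- Normal modifications of a two-dimensional regular local ring have no first cohomology. -/
theorem isRationalSing_of_regular (A : Type u) [CommRing A] [IsRegularLocalRing A]
    (hdim : ringKrullDim A = 2) : Curv2.IsRationalSing A := by
  intro X f hf hX hXn hbir
  haveI := hf
  haveI := hX
  haveI := GrothLib.CMFree.isDomain_of_isRegularLocalRing A
  haveI : IsRegularRing A := GrothLib.BlowUpRegular.isRegularRing_of_isRegularLocalRing A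
  obtain ⟨U, hU, hiso⟩ := hbir
  have hregS : ∀ p : Spec (CommRingCat.of A), IsRegularLocalRing ((Spec (CommRingCat.of A)).presheaf.stalk p) :=
    fun p => GrothLib.WeilExt.isRegularLocalRing_stalk_spec A p
  have hdS : topologicalKrullDim (Spec (CommRingCat.of A)) = 2 :=
    (PrimeSpectrum.topologicalKrullDim_eq_ringKrullDim A).trans hdim
  haveI := hiso
  obtain ⟨W, r, h, hr, hh, -⟩ := GrothLib.ArSurf29.exists_seq_extend (𝟙 (Spec (CommRingCat.of A))) f hregS
    hdS.le U hU (inv (f ∣_ U) ≫ (f ⁻¹ᵁ U).ι) (by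
      rw [Category.assoc, ← morphismRestrict_ι, IsIso.inv_hom_id_assoc, Category.comp_id])
  rw [Category.comp_id] at hh
  have h0 : Subsingleton (Coh.HH (Spec (CommRingCat.of A)) (Coh.structureModule _) 1) :=
    @Equiv.subsingleton _ _ (GrothLib.Cohom.HEquivTop (Coh.toAb (Coh.structureModule (Spec (CommRingCat.of A)))) 1).toEquiv
      (GrothLib.Cohom.subsingleton_ext_freeFun_of_isAffineOpen (isAffineOpen_top _) _ 0)
  obtain ⟨hW, hWn, hWi, hrp, hWreg, V, hV, hVi⟩ := @GrothLib.RatSing29.subsingleton_seq _ _ _ hr _ _ hregS h0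
  haveI := hWi; haveI := hrp; haveI := hVi; haveI := hWn
  haveI : IsProper h := by
    haveI : IsProper (h ≫ f) := by rw [hh]; infer_instance
    exact IsProper.of_comp h f
  let O : (Spec (CommRingCat.of A)).Opens := U ⊓ V
  haveI hfO : IsIso (f ∣_ O) := GrothLib.Nagata6.isIso_restrict_of_le f U O inf_le_left
  have hrO : IsIso (r ∣_ O) := GrothLib.Nagata6.isIso_restrict_of_le r V O inf_le_right
  haveI hhO : IsIso (h ∣_ (f ⁻¹ᵁ O)) := by
    have h1 := hrO
    rw [← hh, morphismRestrict_comp] at h1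
    haveI := h1
    haveI := hfO
    exact @IsIso.of_isIso_comp_right _ _ _ _ _ (h ∣_ (f ⁻¹ᵁ O)) (f ∣_ O) hfO h1
  obtain ⟨u, hu⟩ := hU
  obtain ⟨v, hv⟩ := hV
  obtain ⟨q, hq⟩ := (f ∣_ O).homeomorph.surjective
    ⟨genericPoint _, (genericPoint_specializes u).mem_open U.isOpen hu, (genericPoint_specializes v).mem_open V.isOpen hv⟩
  exact GrothLib.RatSing29.subsingleton_of_source h
    (GrothLib.RatSing29.isIso_app_of_birational h (fun x => (hXn x).2) (f ⁻¹ᵁ O) ⟨_, q.2⟩ hhO) hW

theorem le_one_of_le_two_of_ne {d : WithBot ℕ∞} (hd : d ≤ 2) (h2 : d ≠ 2) : d ≤ 1 := by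
  revert hd h2
  induction d with
  | bot => intros; exact bot_le
  | coe d => induction d with
    | top => intro hd; exact absurd (WithBot.coe_le_coe.1 hd) (by simp)
    | coe n =>
      intro hd h2
      have hd' := WithBot.coe_le_coe.1 hd
      have h1 : n ≤ 2 := by exact_mod_cast hd'
      have h3 : n ≠ 2 := fun e => h2 (by subst e; rfl)
      exact_mod_cast (show n ≤ 1 by omega)

/-- Curves contract only to points whose local ring has dimension at least two. -/
theorem two_le_dim_of_contracted {Y X : Scheme.{u}} [IsIntegral Y] [IsIntegral X] [IsNoetherian X]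
    (f : Y ⟶ X) [IsProper f] (hbir : ∃ U : X.Opens, (U : Set X).Nonempty ∧ IsIso (f ∣_ U)) {v : Y}
    (hv : v ∈ GrothLib.ExcP1.curvesOver f) (hn : IsIntegrallyClosed (X.presheaf.stalk (f v))) :
    ¬ ringKrullDim (X.presheaf.stalk (f v)) ≤ 1 := by
  intro hd
  haveI : IsLocallyNoetherian Y := LocallyOfFiniteType.isLocallyNoetherian f
  haveI : CompactSpace Y := QuasiCompact.compactSpace_of_compactSpace f
  haveI : IsNoetherian Y := {}
  obtain ⟨U, hU, hUi⟩ := hbir
  haveI := hUi
  obtain ⟨e, hb⟩ := GrothLib.ExcP1.birational_of_iso_over (f := f) U hU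
  let φ := (f.stalkMap v).hom
  have hinj : Function.Injective φ := GrothLib.RatSing29.injective_stalkMap f e v
  have hfrac : ∀ b : Y.presheaf.stalk v, ∃ a s : X.presheaf.stalk (f v), s ≠ 0 ∧ b * φ s = φ a := fun b => by
    obtain ⟨c, ⟨s, rfl⟩, hc, ⟨a, ha⟩⟩ := GrothLib.NormDom29.exists_fraction f e hb v b
    exact ⟨a, s, fun h => hc (by rw [h, map_zero]), ha.symm⟩
  have hbij : Function.Bijective φ := by
    by_cases hF : IsField (X.presheaf.stalk (f v))
    · refine ⟨hinj, fun b => ?_⟩
      obtain ⟨a, s, hs, h⟩ := hfrac b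
      obtain ⟨t, ht⟩ := hF.mul_inv_cancel hs
      refine ⟨a * t, ?_⟩
      rw [map_mul, ← h, mul_assoc, ← map_mul, ht, map_one, mul_one]
    · haveI : Ring.KrullDimLE 1 (X.presheaf.stalk (f v)) := Ring.krullDimLE_iff.2 hd
      haveI : Ring.DimensionLEOne (X.presheaf.stalk (f v)) := ⟨fun hp hp' =>
        Ideal.IsPrime.isMaximal_of_ne_bot hp' hp⟩
      haveI : IsDedekindDomain (X.presheaf.stalk (f v)) := {}
      haveI : IsDiscreteValuationRing (X.presheaf.stalk (f v)) :=
        ((IsDiscreteValuationRing.TFAE _ hF).out 0 2).2 this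
      exact GrothLib.CurvePoints.bijective_of_isDiscreteValuationRing φ hinj hfrac
  refine hv.1 ?_
  have h := GrothLib.NormDom29.isClosed_of_isIntegral (𝟙 Y) f v (by rw [Category.id_comp]; exact hv.2) ?_
  · exact h
  · rw [Category.id_comp]
    intro k
    obtain ⟨b, rfl⟩ := Y.residue_surjective v k
    obtain ⟨a, rfl⟩ := hbij.2 b
    rw [show Y.residue v (φ a) = f.residueFieldMap v (X.residue (f v) a) from
      (congr($(Scheme.residue_residueFieldMap f v) a)).symm]
    exact RingHom.isIntegralElem_map _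

/-- An ideal with maximal stalk pulls back to the maximal ideal of the local scheme. -/
theorem comap_fromSpecStalk_eq {X : Scheme.{u}} (K : X.IdealSheafData) (z : X)
    (h : stalkIdeal K z = maximalIdeal (X.presheaf.stalk z)) :
    K.comap (X.fromSpecStalk z) = Curv2.idealSheaf (X.presheaf.stalk z) (maximalIdeal (X.presheaf.stalk z)) := by
  refine Scheme.IdealSheafData.ext_of_isAffine ?_
  have h1 := congrArg (Ideal.map (Scheme.ΓSpecIso (X.presheaf.stalk z)).inv.hom) h
  rw [stalkIdeal, Ideal.map_map, ← CommRingCat.hom_comp, Iso.hom_inv_id, CommRingCat.hom_id, Ideal.map_id] at h1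
  exact h1.trans (GrothLib.BlowUp.ideal_idealSheaf_top _).symm

/-- The local rings of a scheme agree with those of its local schemes. -/
theorem regular_of_flat_preimmersion {P Y : Scheme.{u}} (j : P ⟶ Y) [Flat j] [IsPreimmersion j] (p : P)
    (h : IsRegularLocalRing (Y.presheaf.stalk (j p))) : IsRegularLocalRing (P.presheaf.stalk p) := by
  haveI := GrothLib.ArSurf29.isIso_stalkMap_of_flat_preimmersion j p
  exact IsRegularLocalRing.of_ringEquiv (R := Y.presheaf.stalk (j p)) (asIso (j.stalkMap p)).commRingCatIsoToRingEquiv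

set_option maxHeartbeats 800000 in
/-- **The ideal of a point with a contracted curve becomes invertible.** -/
theorem isPrincipal_stalk_comap {X W Y : Scheme.{u}} [IsIntegral X] [IsNoetherian X]
    (hXreg : ∀ x : X, IsRegularLocalRing (X.presheaf.stalk x)) (hXd : topologicalKrullDim X ≤ 2)
    [IsIntegral W] [IsNoetherian W] (hWn : Pi1.IsNormalScheme W) (h : W ⟶ X) [IsProper h]
    (hhb : ∃ U : X.Opens, (U : Set X).Nonempty ∧ IsIso (h ∣_ U))
    [IsIntegral Y] (hYreg : ∀ y : Y, IsRegularLocalRing (Y.presheaf.stalk y)) (q : Y ⟶ W) [IsProper q]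
    (hqb : ∃ U : W.Opens, (U : Set W).Nonempty ∧ IsIso (q ∣_ U))
    {v : Y} (hv : v ∈ GrothLib.ExcP1.curvesOver q) {y : Y} (hy : IsClosed ({y} : Set Y)) (hyw : q y = q v) :
    (stalkIdeal ((Scheme.IdealSheafData.vanishingIdeal ⟨{q v}, hv.2⟩).comap q) y).IsPrincipal := by
  classical
  have hYn : Pi1.IsNormalScheme Y := fun y => by
    haveI := hYreg y
    exact ⟨inferInstance, GrothLib.RegLoc.isIntegrallyClosed_of_isRegularLocalRing _⟩
  have hqhb := GrothLib.RatSing29.exists_isIso_comp q h hqb hhb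
  obtain ⟨Uh, hUh, hUhi⟩ := hhb
  obtain ⟨U2, hU2, hU2i⟩ := hqhb
  haveI := hUhi; haveI := hU2i
  set w := q v with hwdef
  set x := h w with hxdef
  have hxc : IsClosed ({x} : Set X) := by
    rw [hxdef, ← Set.image_singleton]
    exact h.isClosedMap _ hv.2
  haveI := hXreg x
  let A := (X.presheaf.stalk x : Type u)
  haveI : IsRegularLocalRing A := hXreg x
  haveI : IsIntegrallyClosed A := GrothLib.RegLoc.isIntegrallyClosed_of_isRegularLocalRing _
  have hdimA : ringKrullDim A = 2 := by
    have hle : ringKrullDim (X.presheaf.stalk x) ≤ 2 :=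
      (GrothLib.Ref1.ringKrullDim_stalk_le_topologicalKrullDim _).trans hXd
    refine le_antisymm hle ?_
    by_contra hc
    have h1 : ringKrullDim (X.presheaf.stalk x) ≤ 1 := le_one_of_le_two_of_ne hle (fun e => hc e.ge)
    have hvx : v ∈ GrothLib.ExcP1.curvesOver (q ≫ h) := ⟨hv.1, by rw [Scheme.Hom.comp_apply]; exact hxc⟩
    haveI := hXreg ((q ≫ h) v)
    exact two_le_dim_of_contracted (q ≫ h) ⟨U2, hU2, hU2i⟩ hvx
      (GrothLib.RegLoc.isIntegrallyClosed_of_isRegularLocalRing _) h1
  let j := X.fromSpecStalk x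
  haveI : Flat j := GrothLib.FEt21.flat_fromSpecStalk x
  obtain ⟨hWxi, hWxn, Vh, hVh, hVhi⟩ := GrothLib.RatSing29.pullback_stalk_data h hWn ⟨Uh, hUh, hUhi⟩ x
  obtain ⟨hPi, hPn, V2, hV2, hV2i⟩ := GrothLib.RatSing29.pullback_stalk_data (q ≫ h) hYn ⟨U2, hU2, hU2i⟩ x
  haveI := hWxi; haveI := hPi; haveI := hVhi; haveI := hV2i
  let Wx := pullback h j
  let P := pullback (q ≫ h) j
  let sW : Wx ⟶ Spec (CommRingCat.of A) := pullback.snd h j
  let sP : P ⟶ Spec (CommRingCat.of A) := pullback.snd (q ≫ h) j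
  haveI : IsProper sW := MorphismProperty.pullback_snd h j ‹IsProper h›
  haveI : IsProper sP := MorphismProperty.pullback_snd (q ≫ h) j (inferInstance : IsProper (q ≫ h))
  haveI : Flat (pullback.fst h j) := MorphismProperty.pullback_fst h j inferInstance
  haveI : IsPreimmersion (pullback.fst h j) := MorphismProperty.pullback_fst h j inferInstance
  haveI : Flat (pullback.fst (q ≫ h) j) := MorphismProperty.pullback_fst (q ≫ h) j inferInstance
  haveI : IsPreimmersion (pullback.fst (q ≫ h) j) := MorphismProperty.pullback_fst (q ≫ h) j inferInstance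
  let g : P ⟶ Wx := pullback.lift (pullback.fst (q ≫ h) j ≫ q) (pullback.snd (q ≫ h) j) (by
    rw [Category.assoc, pullback.condition])
  have hg1 : g ≫ pullback.fst h j = pullback.fst (q ≫ h) j ≫ q := pullback.lift_fst _ _ _
  have hg2 : g ≫ sW = sP := pullback.lift_snd _ _ _
  haveI : IsProper g := by
    haveI : IsProper (g ≫ sW) := by rw [hg2]; infer_instance
    exact IsProper.of_comp g sW
  haveI : IsLocallyNoetherian Wx := LocallyOfFiniteType.isLocallyNoetherian sW
  haveI : CompactSpace Wx := QuasiCompact.compactSpace_of_compactSpace sW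
  haveI : IsNoetherian Wx := {}
  haveI : IsLocallyNoetherian P := LocallyOfFiniteType.isLocallyNoetherian sP
  letI : Wx.Over (Spec (CommRingCat.of A)) := ⟨sW⟩
  letI : P.Over (Spec (CommRingCat.of A)) := ⟨sP⟩
  haveI : IsProper (Wx ↘ Spec (CommRingCat.of A)) := ‹IsProper sW›
  haveI : IsProper (P ↘ Spec (CommRingCat.of A)) := ‹IsProper sP›
  letI := RpushSupp20.hasInjectiveResolutions P
  obtain ⟨hgg, -, -, hlen⟩ := Groth.Agent.S7338.result A hdimA Wx P ⟨Vh, hVh, hVhi⟩ ⟨V2, hV2, hV2i⟩ hWxn g hg2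
  -- vanishing of the direct image
  haveI h1P : Subsingleton (Coh.HH P (Coh.structureModule P) 1) :=
    isRationalSing_of_regular A hdimA P sP inferInstance hPi hPn ⟨V2, hV2, hV2i⟩
  rw [Module.length_eq_zero] at hlen
  have hR0 : Subsingleton (Coh.HH Wx ((Coh.Rpush g 1).obj (Coh.structureModule P)) 0) :=
    Module.length_eq_zero_iff.1 (add_eq_zero.1 hlen.symm).2
  have hΓ : Subsingleton Γ((Coh.Rpush g 1).obj (Coh.structureModule P), ⊤) :=
    @Equiv.subsingleton _ _ (ProjCoh.H0top _).symm.toEquiv hR0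
  have hRz : IsZero ((Coh.Rpush g 1).obj (Coh.structureModule P)) := by
    obtain ⟨ι, p, hp⟩ := hgg
    haveI := hp
    exact IsZero.of_epi_eq_zero p (Sigma.hom_ext _ _ fun i =>
      (GrothLib.RatSing29.hom_eq_zero_of_subsingleton _ hΓ).trans comp_zero.symm)
  -- the point of `Wx` over `w`
  obtain ⟨z, hz1, hz2⟩ := Scheme.Pullback.exists_preimage_pullback (f := h) (g := j) w (closedPoint A)
    (show h w = j (closedPoint A) from (Scheme.fromSpecStalk_closedPoint).symm)
  have hgb : ∃ V : Wx.Opens, (V : Set Wx).Nonempty ∧ IsIso (g ∣_ V) := by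
    let Ω : (Spec (CommRingCat.of A)).Opens := Vh ⊓ V2
    haveI hfO : IsIso (sW ∣_ Ω) := GrothLib.Nagata6.isIso_restrict_of_le sW Vh Ω inf_le_left
    have hrO : IsIso (sP ∣_ Ω) := GrothLib.Nagata6.isIso_restrict_of_le sP V2 Ω inf_le_right
    obtain ⟨u, hu⟩ := hVh
    obtain ⟨v', hv'⟩ := hV2
    obtain ⟨q', hq'⟩ := (sW ∣_ Ω).homeomorph.surjective
      ⟨genericPoint _, (genericPoint_specializes u).mem_open Vh.isOpen hu,
        (genericPoint_specializes v').mem_open V2.isOpen hv'⟩
    refine ⟨sW ⁻¹ᵁ Ω, ⟨_, q'.2⟩, ?_⟩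
    have h1 := hrO
    rw [← hg2, morphismRestrict_comp] at h1
    haveI := h1
    exact @IsIso.of_isIso_comp_right _ _ _ _ _ (g ∣_ (sW ⁻¹ᵁ Ω)) (sW ∣_ Ω) hfO h1
  obtain ⟨hP'i, hP'n, V', hV', hV'i⟩ := GrothLib.RatSing29.pullback_stalk_data g hPn hgb z
  haveI := hP'i; haveI := hV'i
  let O := (Wx.presheaf.stalk z : Type u)
  let P' := pullback g (Wx.fromSpecStalk z)
  let s' : P' ⟶ Spec (CommRingCat.of O) := pullback.snd g (Wx.fromSpecStalk z)
  letI : P'.Over (Spec (CommRingCat.of O)) := ⟨s'⟩
  haveI : IsProper s' := MorphismProperty.pullback_snd g (Wx.fromSpecStalk z) ‹IsProper g›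
  have h1P' : Subsingleton (Coh.HH P' (Coh.structureModule P') 1) := by
    obtain ⟨e⟩ := BCCoh.exists_stalk_Rpush_equiv g (Coh.structureModule P) (HomSh.isCoh_structureModule P) z 1 P'
      (pullback.fst g (Wx.fromSpecStalk z)) (IsPullback.of_hasPullback g (Wx.fromSpecStalk z))
    obtain ⟨e', -⟩ := FormalFn.exists_hh_equiv (A := O)
      (PicLoc.pullbackStructureIso (pullback.fst g (Wx.fromSpecStalk z))) 1
    haveI : Subsingleton (((Coh.Rpush g 1).obj (Coh.structureModule P)).presheaf.stalk z) :=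
      ModuleCat.subsingleton_of_isZero ((OX.stalk z).map_isZero hRz)
    exact (e.trans e').toEquiv.symm.subsingleton
  haveI : Flat (Wx.fromSpecStalk z) := GrothLib.FEt21.flat_fromSpecStalk z
  haveI : Flat (pullback.fst g (Wx.fromSpecStalk z)) :=
    MorphismProperty.pullback_fst g (Wx.fromSpecStalk z) inferInstance
  haveI : IsPreimmersion (pullback.fst g (Wx.fromSpecStalk z)) :=
    MorphismProperty.pullback_fst g (Wx.fromSpecStalk z) inferInstance
  let φ : P' ⟶ Y := pullback.fst g (Wx.fromSpecStalk z) ≫ pullback.fst (q ≫ h) j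
  have hlift : ∀ p : Y, q p = w → ∃ p' : P', φ p' = p ∧ s' p' = closedPoint O := fun p hp => by
    obtain ⟨p1, hp1, hp2⟩ := Scheme.Pullback.exists_preimage_pullback (f := q ≫ h) (g := j) p (closedPoint A)
      (show (q ≫ h) p = j (closedPoint A) by
        rw [Scheme.Hom.comp_apply, hp]
        exact (Scheme.fromSpecStalk_closedPoint).symm)
    have hgp : g p1 = z := (pullback.fst h j).isEmbedding.injective (by
      rw [hz1, ← Scheme.Hom.comp_apply, hg1, Scheme.Hom.comp_apply, hp1, hp])
    obtain ⟨p', hp'1, hp'2⟩ := Scheme.Pullback.exists_preimage_pullback (f := g) (g := Wx.fromSpecStalk z) p1 (closedPoint O)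
      (show g p1 = Wx.fromSpecStalk z (closedPoint O) from hgp.trans (Scheme.fromSpecStalk_closedPoint).symm)
    exact ⟨p', by rw [Scheme.Hom.comp_apply, hp'1, hp1], hp'2⟩
  obtain ⟨y', hy', hy's⟩ := hlift y hyw
  obtain ⟨v', hv', hv's⟩ := hlift v rfl
  haveI : IsIso ((pullback.fst h j).stalkMap z) := GrothLib.ArSurf29.isIso_stalkMap_of_flat_preimmersion _ z
  haveI : IsDomain O := (hWxn z).1
  haveI : IsIntegrallyClosed O := (hWxn z).2
  have hdimO : ringKrullDim O = 2 := by
    have hd1 : ringKrullDim O = ringKrullDim (W.presheaf.stalk w) := by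
      rw [← hz1]
      exact (ringKrullDim_eq_of_ringEquiv (asIso ((pullback.fst h j).stalkMap z)).commRingCatIsoToRingEquiv).symm
    rw [hd1]
    have hle : ringKrullDim (W.presheaf.stalk w) ≤ 2 := (GrothLib.Ref1.ringKrullDim_stalk_le_topologicalKrullDim _).trans
      (GrothLib.RatSing29.dim_le_of_birational h Uh hUh hUhi hXd)
    refine le_antisymm hle ?_
    by_contra hc
    exact two_le_dim_of_contracted q hqb hv (hWn _).2 (le_one_of_le_two_of_ne hle (fun e => hc e.ge))
  have hy'c : IsClosed ({y'} : Set P') := by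
    have hinj : Function.Injective φ := fun a b hab =>
      (pullback.fst g (Wx.fromSpecStalk z)).isEmbedding.injective ((pullback.fst (q ≫ h) j).isEmbedding.injective hab)
    have e : ({y'} : Set P') = φ ⁻¹' {y} := Set.ext fun a =>
      ⟨fun ha => by rw [Set.mem_singleton_iff.1 ha]; exact hy', fun ha => hinj (Eq.trans ha hy'.symm)⟩
    rw [e]
    exact hy.preimage φ.continuous
  have hreg' : IsRegularLocalRing (P'.presheaf.stalk y') := regular_of_flat_preimmersion φ y' (hYreg _)
  haveI := GrothLib.ArSurf29.isIso_stalkMap_of_flat_preimmersion φ y'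
  have hyd : ringKrullDim (P'.presheaf.stalk y') ≤ 2 := by
    rw [← ringKrullDim_eq_of_ringEquiv (asIso (φ.stalkMap y')).commRingCatIsoToRingEquiv]
    exact (GrothLib.Ref1.ringKrullDim_stalk_le_topologicalKrullDim _).trans
      (GrothLib.RatSing29.dim_le_of_birational (q ≫ h) U2 hU2 hU2i hXd)
  have hvy : v' ≠ y' := fun e => hv.1 (by rw [← hv', e, hy']; exact hy)
  have hmain := isPrincipal_stalk hdimO s' ⟨V', hV', hV'i⟩ h1P' y' v' hreg' hyd hy'c hvy hy's hv's
  -- transport
  set J := Scheme.IdealSheafData.vanishingIdeal ⟨{w}, hv.2⟩ with hJ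
  have hK : stalkIdeal (J.comap (pullback.fst h j)) z = maximalIdeal O := by
    rw [stalkIdeal_comap]
    have key : ∀ w', w' = w → stalkIdeal J w' = maximalIdeal (W.presheaf.stalk w') := by
      rintro w' rfl
      exact GrothLib.ExcP1.stalkIdeal_vanishingIdeal hv.2
    rw [key _ hz1]
    refine le_antisymm (Ideal.map_le_iff_le_comap.2 fun a ha => ?_) fun b hb => ?_
    · exact fun hu => ha ((isUnit_map_iff ((pullback.fst h j).stalkMap z).hom a).1 hu)
    · obtain ⟨a, rfl⟩ := (ConcreteCategory.bijective_of_isIso ((pullback.fst h j).stalkMap z)).2 b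
      exact Ideal.mem_map_of_mem _ (fun hu => hb (hu.map _))
  have hcomp : φ ≫ q = s' ≫ Wx.fromSpecStalk z ≫ pullback.fst h j := by
    rw [← Category.assoc s', ← pullback.condition, Category.assoc, Category.assoc, hg1]
  have hI : (J.comap q).comap φ = (Curv2.idealSheaf O (maximalIdeal O)).comap s' := by
    rw [← Scheme.IdealSheafData.comap_comp, hcomp, Scheme.IdealSheafData.comap_comp,
      Scheme.IdealSheafData.comap_comp, comap_fromSpecStalk_eq _ z hK]
  rw [← hI, stalkIdeal_comap] at hmain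
  obtain ⟨γ, hγ⟩ := hmain.principal
  obtain ⟨γ', rfl⟩ := (ConcreteCategory.bijective_of_isIso (φ.stalkMap y')).2 γ
  have key : ∀ p, p = y → (stalkIdeal (J.comap q) p).IsPrincipal → (stalkIdeal (J.comap q) y).IsPrincipal := by
    rintro p rfl hp; exact hp
  refine key _ hy' ⟨⟨γ', ?_⟩⟩
  have hb := ConcreteCategory.bijective_of_isIso (φ.stalkMap y')
  have h1 := congrArg (Ideal.comap (φ.stalkMap y').hom) hγ
  rw [Ideal.comap_map_of_bijective _ hb] at h1
  rw [h1]
  change Ideal.comap _ (Ideal.span {_}) = Ideal.span {γ'}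
  rw [← Set.image_singleton, ← Ideal.map_span]
  exact Ideal.comap_map_of_bijective _ hb

end GrothLib.NormBlow29
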