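import Groth.Agent.Lib.NormBlow29.Algebra
import Groth.Agent.Lib.RatSing29.BlowUpNormal
import Groth.Agent.Lib.RatSing29.GGH1
import Groth.Agent.Lib.ArSurf29.FactorBlowUp
import Groth.Agent.Lib.Euler.Divisor

/-!
# The maximal ideal becomes invertible on regular modifications without first cohomology
-/

set_option autoImplicit false
set_option linter.all false
set_option backward.isDefEq.respectTransparency false

universe u

open CategoryTheory CategoryTheory.Limits AlgebraicGeometry TopologicalSpace IsLocalRing Opposite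
open GrothLib.CartierDescent GrothLib.IdealModSec GrothLib.RatSing29

noncomputable section

namespace GrothLib.NormBlow29

section H1

variable {A : Type u} [CommRing A] {X : Scheme.{u}} [X.Over (Spec (CommRingCat.of A))]
  {I : X.IdealSheafData} {r : ℕ} {a : Fin r → A} (hI : GenBy I a)

include hI in
theorem epi_phi_zero : Epi (phi hI 0) := by
  haveI := idealMod_qc I 1
  haveI := qc_biproduct (F := fun _ : Fin r => RatSing29.P I 0) fun _ => idealMod_qc I 0
  refine FunMor20.epi_of_surjective_cover _ (fun U : X.affineOpens => U.1) (fun U => U.2) (fun x => by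
      obtain ⟨U, hx, -⟩ := GrothLib.BlowUp.exists_affine_mem_le (W := (⊤ : X.Opens)) (x := x) trivial
      exact ⟨U, hx⟩) fun U w => ?_
  have hw : val (I ^ (0 + 1)) U.1 w ∈ Ideal.span (Set.range fun i => gOn X (a i) U.1) := by
    rw [← hI U]
    exact ((ideal_pow_eq I _ U).trans (pow_one _)).le (val_mem _ U w)
  obtain ⟨c, hc⟩ := Ideal.mem_span_range_iff_exists_fun.1 hw
  have hk : ∀ i, ∃ k : Γ(RatSing29.P I 0, U.1), val (I ^ 0) U.1 k = c i := fun i =>
    exists_val_eq _ U (by rw [ideal_pow_eq, pow_zero, Ideal.one_eq_top]; trivial)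
  choose k hk using hk
  obtain ⟨s, hs⟩ := exists_section_of_biproduct U.1 k
  refine ⟨s, val_injective _ _ ?_⟩
  rw [val_phi, ← hc]
  exact Finset.sum_congr rfl fun i _ => by rw [hs, hk, mul_comm]

variable [CompactSpace X] [QuasiSeparatedSpace X]
  (h2 : ∀ K : X.Modules, K.IsQuasicoherent → Subsingleton (Coh.HH X K 2))
  (h1 : Subsingleton (Coh.HH X (Coh.structureModule X) 1))

include hI h2 h1

/-- An ideal generated by global functions has no first cohomology. -/
theorem subsingleton_H1_ideal : Subsingleton (Coh.HH X (ClSub.idealMod I) 1) := by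
  have h0 : Subsingleton (Coh.HH X (RatSing29.P I 0) 1) := by
    haveI := HodgeIndex.isIso_idealModι_top (X := X)
    have h0 : I ^ 0 = (⊤ : X.IdealSheafData) := (pow_zero I).trans Scheme.IdealSheafData.one_eq_top
    show Subsingleton (Coh.HH X (ClSub.idealMod (I ^ 0)) 1)
    rw [h0]
    haveI := h1
    exact (FormalFn.exists_hh_equiv (A := A) (asIso (ClSub.idealModι (⊤ : X.IdealSheafData))) 1).choose.toEquiv.subsingleton
  haveI := idealMod_qc I 1
  haveI := qc_biproduct (F := fun _ : Fin r => RatSing29.P I 0) fun _ => idealMod_qc I 0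
  haveI := epi_phi_zero hI
  have h := subsingleton_H1_of_epi A h2 (phi hI 0) (subsingleton_HH_biproduct fun _ => h0)
  rw [show I = I ^ (0 + 1) from (pow_one I).symm]
  exact h

/-- Global functions lift along the closed subscheme. -/
theorem surjective_app_top : Function.Surjective (I.subschemeι.app ⊤) := by
  intro t
  haveI := GrothLib.Euler.epi_toSubscheme I
  have hS : (ShortComplex.mk (ClSub.idealModι I) (ClSub.toSubscheme I) (kernel.condition _)).ShortExact :=
    { exact := ShortComplex.exact_of_f_is_kernel _ (kernelIsKernel (ClSub.toSubscheme I))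
      mono_f := inferInstanceAs (Mono (kernel.ι _))
      epi_g := inferInstance }
  let x : Coh.HH X (ClSub.quotMod I) 0 := (ProjCoh.H0top (ClSub.quotMod I)).symm t
  haveI := subsingleton_H1_ideal hI h2 h1
  obtain ⟨y, hy⟩ := (Cohom.exact₃ (A := A) hS 0 x).1 (Subsingleton.elim _ _)
  refine ⟨ProjCoh.H0top _ y, ?_⟩
  have h := ProjCoh.H0top_map ((QCoh.toAbFun X).map (ClSub.toSubscheme I)) y
  have h' : Sheaf.H.map ((QCoh.toAbFun X).map (ClSub.toSubscheme I)) 0 y = x := hy
  rw [h'] at h
  simp only [x, AddEquiv.apply_symm_apply] at h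
  exact h.symm

end H1

variable {A : Type u} [CommRing A] [IsDomain A] [IsLocalRing A] [IsNoetherianRing A] [IsIntegrallyClosed A]

/-- **The maximal ideal is locally principal on a regular modification without first cohomology.** -/
theorem isPrincipal_stalk (hdim : ringKrullDim A = 2) {P : Scheme.{u}} (f : P ⟶ Spec (CommRingCat.of A))
    [IsProper f] [IsIntegral P]
    (hbir : ∃ U : (Spec (CommRingCat.of A)).Opens, (U : Set (Spec (CommRingCat.of A))).Nonempty ∧ IsIso (f ∣_ U))
    (h1 : Subsingleton (Coh.HH P (Coh.structureModule P) 1))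
    (y v : P) (hreg : IsRegularLocalRing (P.presheaf.stalk y))
    (hyd : ringKrullDim (P.presheaf.stalk y) ≤ 2) (hy : IsClosed ({y} : Set P))
    (hvy : v ≠ y) (hfy : f y = closedPoint A) (hfv : f v = closedPoint A) :
    (stalkIdeal ((Curv2.idealSheaf A (maximalIdeal A)).comap f) y).IsPrincipal := by
  letI : P.Over (Spec (CommRingCat.of A)) := ⟨f⟩
  haveI : IsLocallyNoetherian P := LocallyOfFiniteType.isLocallyNoetherian f
  haveI : CompactSpace P := QuasiCompact.compactSpace_of_compactSpace f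
  haveI : QuasiSeparatedSpace P := quasiSeparatedSpace_of_quasiSeparated f
  haveI := hreg
  set I := (Curv2.idealSheaf A (maximalIdeal A)).comap f with hIdef
  obtain ⟨r, a, ha⟩ := Submodule.fg_iff_exists_fin_generating_family.1 (IsNoetherian.noetherian (maximalIdeal A))
  have hI : GenBy I a := genBy_comap a ha.symm
  have h2 := fun (K : P.Modules) (hK : K.IsQuasicoherent) =>
    @GrothLib.RatSing29.subsingleton_HH_two_le A _ _ _ _ P f _ _ hdim hbir K hK 2 one_lt_two
  have hsurj := surjective_app_top hI h2 h1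
  -- the global functions
  obtain ⟨O, hO, hOi⟩ := hbir
  have hnS : ∀ z, IsIntegrallyClosed ((Spec (CommRingCat.of A)).presheaf.stalk z) := fun z => by
    haveI : IsIntegrallyClosed (Localization.AtPrime z.asIdeal) :=
      isIntegrallyClosed_of_isLocalization _ z.asIdeal.primeCompl z.asIdeal.primeCompl_le_nonZeroDivisors
    exact IsIntegrallyClosed.of_equiv (AlgebraicGeometry.Spec.stalkIso (CommRingCat.of A) z).symm.commRingCatIsoToRingEquiv
  haveI happ := GrothLib.RatSing29.isIso_app_of_birational f hnS O hO hOi ⊤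
  have hsur : ∀ y : Γ(P, ⊤), ∃ b : A, Coh.toGlobal f b = y := fun y => by
    obtain ⟨z, hz⟩ := (ConcreteCategory.bijective_of_isIso (f.app ⊤)).2 y
    obtain ⟨b, rfl⟩ := (ConcreteCategory.bijective_of_isIso (Scheme.ΓSpecIso (CommRingCat.of A)).inv).2 z
    exact ⟨b, hz⟩
  have hzero : ∀ b ∈ maximalIdeal A, I.subschemeι.app ⊤ (Coh.toGlobal f b) = 0 := fun b hb => by
    have hU : ∀ U : P.affineOpens, P.presheaf.map (homOfLE (le_top : U.1 ≤ ⊤)).op (Coh.toGlobal f b) ∈ I.ideal U :=
      fun U => by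
        rw [hI U]
        rw [← ha] at hb
        obtain ⟨c, rfl⟩ := Ideal.mem_span_range_iff_exists_fun.1 hb
        refine Ideal.mem_span_range_iff_exists_fun.2 ⟨fun i => gOn P (c i) U.1, ?_⟩
        simp only [gOn, map_sum, map_mul]
        rfl
    refine I.subscheme.sheaf.eq_of_locally_eq'
      (fun U : P.affineOpens => I.subschemeι ⁻¹ᵁ U.1) _ (fun U => homOfLE le_top) (fun z _ => ?_) _ _ fun U => ?_
    · obtain ⟨U, hxU, -⟩ := GrothLib.BlowUp.exists_affine_mem_le (W := (⊤ : P.Opens)) (x := I.subschemeι z) trivial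
      exact TopologicalSpace.Opens.mem_iSup.2 ⟨U, hxU⟩
    · have h3 := hU U
      rw [← Scheme.IdealSheafData.ker_subschemeι_app, RingHom.mem_ker] at h3
      refine Eq.trans ?_ (map_zero _).symm
      exact (ConcreteCategory.congr_hom (I.subschemeι.naturality (homOfLE (le_top : U.1 ≤ ⊤)).op) _).symm.trans h3
  have hfield : ∀ ζ : Γ(I.subscheme, ⊤), ζ = 0 ∨ IsUnit ζ := fun ζ => by
    obtain ⟨σ, rfl⟩ := hsurj ζ
    obtain ⟨b, rfl⟩ := hsur σ
    by_cases hb : b ∈ maximalIdeal A
    · exact Or.inl (hzero b hb)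
    · exact Or.inr (((IsLocalRing.notMem_maximalIdeal.1 hb).map (Coh.toGlobal f)).map (I.subschemeι.app ⊤).hom)
  -- the points of the fibre
  have hmemS : ∀ x : P, f x = closedPoint A → ∃ z, I.subschemeι z = x := fun x hx => by
    have h : x ∈ (I.support : Set P) := by
      rw [hIdef, Scheme.IdealSheafData.support_comap]
      show f x ∈ ((Curv2.idealSheaf A (maximalIdeal A)).support : Set (Spec (CommRingCat.of A)))
      rw [Curv2.idealSheaf, Scheme.IdealSheafData.coe_support_ofIdealTop, Spec_zeroLocus, ← Ideal.coe_comap,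
        Ideal.comap_map_of_bijective _ (ConcreteCategory.bijective_of_isIso (Scheme.ΓSpecIso (CommRingCat.of A)).inv),
        hx]
      exact (PrimeSpectrum.zeroLocus_eq_singleton _).ge rfl
    rw [← Scheme.IdealSheafData.range_subschemeι] at h
    exact h
  obtain ⟨zv, hzv⟩ := hmemS v hfv
  refine isPrincipal_of_no_socle hyd _ fun s hs => ?_
  obtain ⟨U, hyU, -⟩ := GrothLib.BlowUp.exists_affine_mem_le (W := (⊤ : P.Opens)) (x := y) trivial
  let _ := TopCat.Presheaf.algebra_section_stalk P.presheaf (⟨y, hyU⟩ : U.1)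
  haveI := U.2.isLocalization_stalk ⟨y, hyU⟩
  let p := (U.2.primeIdealOf ⟨y, hyU⟩).asIdeal
  let π := algebraMap Γ(P, U.1) (P.presheaf.stalk y)
  haveI : IsNoetherianRing Γ(P, U.1) := IsLocallyNoetherian.component_noetherian U
  rw [stalkIdeal_eq I U hyU] at hs ⊢
  change ∀ m ∈ _, m * s ∈ (I.ideal U).map π at hs
  show s ∈ (I.ideal U).map π
  obtain ⟨t, d, rfl⟩ := IsLocalization.exists_mk'_eq p.primeCompl s
  obtain ⟨S, hS⟩ := IsNoetherian.noetherian p
  have key : ∀ g ∈ p, ∃ u ∉ p, u * (g * t) ∈ I.ideal U := fun g hg => by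
    have hm : π g ∈ maximalIdeal (P.presheaf.stalk y) :=
      (IsLocalization.AtPrime.to_map_mem_maximal_iff (P.presheaf.stalk y) p g).2 hg
    have h := hs _ (Ideal.mul_mem_left _ (π d) hm)
    rw [show π d * π g * IsLocalization.mk' (P.presheaf.stalk y) t d = π (g * t) by
      rw [map_mul, ← IsLocalization.mk'_spec' (P.presheaf.stalk y) t d]; ring] at h
    exact (IsLocalization.algebraMap_mem_map_algebraMap_iff p.primeCompl (P.presheaf.stalk y) _ _).1 h
  choose! u hu hut using key
  let e := ∏ g ∈ S, u g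
  have he : e ∉ p := by
    rw [Ideal.IsPrime.prod_mem_iff]
    rintro ⟨g, hg, hug⟩
    exact hu g (hS ▸ Ideal.subset_span hg) hug
  let t' := e * t
  have hgt : ∀ g ∈ S, g * t' ∈ I.ideal U := fun g hg => by
    obtain ⟨k, hk⟩ := Finset.dvd_prod_of_mem u hg
    rw [show g * t' = k * (u g * (g * t)) by simp only [t', e, hk]; ring]
    exact Ideal.mul_mem_left _ _ (hut g (hS ▸ Ideal.subset_span hg))
  -- the global function on the fibre
  let ι := I.subschemeι
  let C : P.Opens := ⟨{y}ᶜ, hy.isOpen_compl⟩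
  let τ : Γ(I.subscheme, ι ⁻¹ᵁ U.1) := ι.app U.1 t'
  have hτ : ∀ z (hz : z ∈ ι ⁻¹ᵁ U.1), ι z ≠ y → I.subscheme.presheaf.germ _ z hz τ = 0 := by
    intro z hz hzy
    obtain ⟨g, hgS, hgu⟩ : ∃ g ∈ S, IsUnit (P.presheaf.germ U.1 (ι z) hz g) := by
      by_contra hc
      push Not at hc
      refine hzy ?_
      let q := (U.2.primeIdealOf ⟨ι z, hz⟩).asIdeal
      have hle : p ≤ q := by
        rw [← hS, Ideal.span_le]
        intro g hg
        by_contra hgq
        refine hc g hg ?_
        let _ := TopCat.Presheaf.algebra_section_stalk P.presheaf (⟨ι z, hz⟩ : U.1)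
        haveI := U.2.isLocalization_stalk ⟨ι z, hz⟩
        exact IsLocalization.map_units _ (⟨g, hgq⟩ : q.primeCompl)
      have hsp : U.2.primeIdealOf ⟨y, hyU⟩ ⤳ U.2.primeIdealOf ⟨ι z, hz⟩ :=
        (PrimeSpectrum.le_iff_specializes _ _).1 hle
      have h := hsp.map U.2.fromSpec.continuous
      rw [U.2.fromSpec_primeIdealOf, U.2.fromSpec_primeIdealOf] at h
      exact h.mem_closed hy (Set.mem_singleton y)
    have h0 : ι.app U.1 (g * t') = 0 := by
      rw [← RingHom.mem_ker, Scheme.IdealSheafData.ker_subschemeι_app]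
      exact hgt g hgS
    have h0' := congrArg (I.subscheme.presheaf.germ _ z hz) h0
    rw [map_mul, map_mul, map_zero] at h0'
    refine (IsUnit.mul_right_eq_zero ?_).1 h0'
    have hgm := Scheme.Hom.germ_stalkMap_apply ι U.1 z hz g
    exact hgm ▸ hgu.map (ι.stalkMap z).hom
  have hτ0 : τ = 0 := by
    let Vf : ULift.{u} Bool → I.subscheme.Opens := fun b => if b.down then ι ⁻¹ᵁ U.1 else ι ⁻¹ᵁ C
    let sf : ∀ b, Γ(I.subscheme, Vf b) := fun b => match b with
      | ⟨true⟩ => τ
      | ⟨false⟩ => (0 : Γ(I.subscheme, ι ⁻¹ᵁ C))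
    have hc : TopCat.Presheaf.IsCompatible I.subscheme.presheaf Vf sf := by
      rintro ⟨_ | _⟩ ⟨_ | _⟩
      · rfl
      · refine TopCat.Presheaf.section_ext (C := CommRingCat.{u}) (X := I.subscheme.carrier) I.subscheme.sheaf _ _ _ fun z hz => ?_
        refine (TopCat.Presheaf.germ_res_apply _ _ _ _ _).trans (Eq.trans ?_ (TopCat.Presheaf.germ_res_apply _ _ _ _ _).symm)
        exact (map_zero _).trans (hτ z hz.2 hz.1).symm
      · refine TopCat.Presheaf.section_ext (C := CommRingCat.{u}) (X := I.subscheme.carrier) I.subscheme.sheaf _ _ _ fun z hz => ?_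
        refine (TopCat.Presheaf.germ_res_apply _ _ _ _ _).trans (Eq.trans ?_ (TopCat.Presheaf.germ_res_apply _ _ _ _ _).symm)
        exact (hτ z hz.1 hz.2).trans (map_zero _).symm
      · rfl
    obtain ⟨ζ, hζ, -⟩ := TopCat.Sheaf.existsUnique_gluing' I.subscheme.sheaf Vf ⊤ (fun b => homOfLE le_top)
      (fun z _ => Opens.mem_iSup.2 (by
        by_cases hz : ι z = y
        · exact ⟨⟨true⟩, show ι z ∈ U.1 from hz ▸ hyU⟩
        · exact ⟨⟨false⟩, show ι z ∈ C from hz⟩)) sf hc
    rcases hfield ζ with h | h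
    · have hτζ : _ = τ := hζ ⟨true⟩
      rw [← hτζ, h]
      exact map_zero _
    · exfalso
      have h2 : _ = (0 : Γ(I.subscheme, ι ⁻¹ᵁ C)) := hζ ⟨false⟩
      have hu0 : IsUnit (0 : Γ(I.subscheme, ι ⁻¹ᵁ C)) := h2 ▸ h.map (I.subscheme.presheaf.map _).hom
      have hu1 := hu0.map (I.subscheme.presheaf.germ (ι ⁻¹ᵁ C) zv (show ι zv ∈ C from hzv ▸ hvy)).hom
      rw [map_zero] at hu1
      exact not_isUnit_zero hu1
  have ht' : t' ∈ I.ideal U := by
    rw [← Scheme.IdealSheafData.ker_subschemeι_app, RingHom.mem_ker]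
    exact hτ0
  rw [IsLocalization.mk'_mem_map_algebraMap_iff]
  exact ⟨e, he, ht'⟩

end GrothLib.NormBlow29
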