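import Groth.Agent.Lib.NormBlow29.Resolve
import Groth.Agent.Lib.Birat.NormalPoint
import Groth.Agent.Lib.NormFib.Cokernel

/-!
# Sequences of normalized blow-ups as modifications
-/

set_option autoImplicit false
set_option linter.all false
set_option backward.isDefEq.respectTransparency false

universe u

open CategoryTheory CategoryTheory.Limits AlgebraicGeometry TopologicalSpace IsLocalRing Opposite

noncomputable section

namespace GrothLib.NormBlow29

/-- Sequences of normalized blow-ups may be composed with isomorphisms. -/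
theorem seq_comp_iso {X' X : Scheme.{u}} {g : X' ⟶ X} (hg : Resolve.IsNormPtBlowupSeq g) :
    ∀ {X₀ : Scheme.{u}} (e : X ≅ X₀), Resolve.IsNormPtBlowupSeq (g ≫ e.hom) := by
  induction hg with
  | iso e' => intro X₀ e; exact .iso (e' ≪≫ e)
  | step b r z hz hb hr ih =>
    intro X₀ e
    rw [Category.assoc, Category.assoc]
    exact .step b (r ≫ e.hom) z hz hb (ih e)

/-- Birationality at the generic points. -/
def GenBij {X' X : Scheme.{u}} [IsIntegral X'] [IsIntegral X] (g : X' ⟶ X) : Prop :=
  g (genericPoint X') = genericPoint X ∧ Function.Bijective (g.stalkMap (genericPoint X'))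

theorem genBij_comp {A B C : Scheme.{u}} [IsIntegral A] [IsIntegral B] [IsIntegral C] (f : A ⟶ B) (g : B ⟶ C)
    (hf : GenBij f) (hg : GenBij g) : GenBij (f ≫ g) := by
  refine ⟨by rw [Scheme.Hom.comp_apply, hf.1, hg.1], ?_⟩
  have key : ∀ e : B, e = genericPoint B → Function.Bijective (g.stalkMap e) := by
    rintro e rfl
    exact hg.2
  rw [Scheme.Hom.stalkMap_comp]
  exact hf.2.comp (key _ hf.1)

theorem genBij_of_iso_over {A B : Scheme.{u}} [IsIntegral A] [IsIntegral B] (f : A ⟶ B) (V : B.Opens)
    (hV : (V : Set B).Nonempty) [IsIso (f ∣_ V)] : GenBij f := by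
  haveI : IsOpenImmersion ((f ⁻¹ᵁ V).ι ≫ f) := by rw [← morphismRestrict_ι]; infer_instance
  obtain ⟨w, hw⟩ := hV
  exact GrothLib.Birat.birational_of_openImmersion f
    ⟨f ⁻¹ᵁ V, ⟨_, ((f ∣_ V).homeomorph.symm ⟨w, hw⟩).2⟩, ‹_›⟩

theorem genBij_normalizationι (X : Scheme.{u}) [IsIntegral X] [QuasiCompact (X.fromSpecStalk (genericPoint X))]
    [QuasiSeparated (X.fromSpecStalk (genericPoint X))] : GenBij (Curv2.normalizationι X) := by
  refine ⟨GrothLib.NormFib.map_genericPoint, ?_⟩
  set e := Curv2.normalizationι X (genericPoint (Curv2.normalization X)) with he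
  letI := (GrothLib.NormFib.toFF (X := X) e).toAlgebra
  haveI := GrothLib.NormFib.isFractionRing_stalk_ff (X := X) e
  have key : ∀ x : X, x = genericPoint X → IsField (X.presheaf.stalk x) := by
    rintro x rfl
    exact Field.toIsField X.functionField
  have hF : IsField (X.presheaf.stalk e) := key _ GrothLib.NormFib.map_genericPoint
  haveI : IsDomain (X.presheaf.stalk e) := hF.isDomain
  have hs : X.presheaf.stalkSpecializes (GrothLib.NormFib.specializes_map_genericPoint e) = 𝟙 _ :=
    TopCat.Presheaf.stalkSpecializes_refl _ e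
  have hbij : Function.Bijective (GrothLib.NormFib.toFF (X := X) e) := by
    refine ⟨IsFractionRing.injective (X.presheaf.stalk e) (Curv2.normalization X).functionField, fun y => ?_⟩
    obtain ⟨a, s, hs', rfl⟩ := IsFractionRing.div_surjective (A := X.presheaf.stalk e) y
    obtain ⟨t, ht⟩ := hF.mul_inv_cancel (nonZeroDivisors.ne_zero hs')
    refine ⟨a * t, (eq_div_iff ?_).2 ?_⟩
    · exact (map_ne_zero_iff _ (IsFractionRing.injective _ _)).2 (nonZeroDivisors.ne_zero hs')
    · show algebraMap _ _ (a * t) * _ = _
      rw [← map_mul, mul_assoc, mul_comm t, ht, mul_one]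
  unfold GrothLib.NormFib.toFF at hbij
  rw [hs, Category.id_comp] at hbij
  exact hbij

/-- A sequence of normalized blow-ups is birational at the generic points. -/
theorem genBij_seq {X' X : Scheme.{u}} {g : X' ⟶ X} (hg : Resolve.IsNormPtBlowupSeq g) :
    ∀ [IsIntegral X], ∃ _ : IsIntegral X', GenBij g := by
  induction hg with
  | @iso A B e =>
    intro _
    haveI : Nonempty A := ⟨e.inv (genericPoint B)⟩
    haveI : IsIntegral A := isIntegral_of_isOpenImmersion e.hom
    exact ⟨inferInstance, genBij_of_iso_over e.hom ⊤ ⟨genericPoint B, trivial⟩⟩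
  | @step Z' Z X _ _ _ b r z hz hb hr ih =>
    intro _
    obtain ⟨hZ, hr'⟩ := @ih _
    haveI := hZ
    set J := Scheme.IdealSheafData.vanishingIdeal (X := Z) ⟨{z}, hz⟩ with hJ
    have hzη : z ≠ genericPoint Z := by
      intro e
      obtain ⟨U, hxU, a, ha, hU⟩ := hb.1 (genericPoint Z')
      have hall : ((J.comap b).support : Set Z') = Set.univ := by
        rw [Scheme.IdealSheafData.support_comap]
        refine Set.eq_univ_of_forall fun w => ?_
        show b w ∈ (J.support : Set Z)
        rw [Scheme.IdealSheafData.coe_support_vanishingIdeal]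
        exact (show genericPoint Z ⤳ b w from genericPoint_specializes _).mem_closed hz (e ▸ rfl)
      have h1 : genericPoint Z' ∉ ((J.comap b).support : Set Z') := by
        intro hm
        obtain ⟨γ, hγ, hγe⟩ := GrothLib.CartierDescent.exists_stalk_generator hb.1 (genericPoint Z')
        refine absurd hm ((GrothLib.CartierDescent.stalkIdeal_eq_top_iff _ _).1 ?_)
        rw [hγe]
        exact Ideal.span_singleton_eq_top.2 (IsUnit.mk0 (G₀ := Z'.functionField) γ (nonZeroDivisors.ne_zero hγ))
      exact h1 (hall.symm ▸ Set.mem_univ _)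
    have hU : genericPoint Z ∈ J.support.compl := by
      show genericPoint Z ∉ (J.support : Set Z)
      rw [Scheme.IdealSheafData.coe_support_vanishingIdeal]
      exact fun h => hzη (Eq.symm h)
    haveI := GrothLib.BlowUp.isIso_off_center hb
    exact ⟨inferInstance, genBij_comp _ _ (genBij_normalizationι Z')
      (genBij_comp _ _ (genBij_of_iso_over b J.support.compl ⟨_, hU⟩) hr')⟩

/-- A proper morphism bijective at the generic points is an isomorphism over a nonempty open. -/
theorem exists_isIso_of_genBij {A B : Scheme.{u}} [IsIntegral A] [IsIntegral B] (g : A ⟶ B) [IsProper g]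
    (h : GenBij g) : ∃ V : B.Opens, (V : Set B).Nonempty ∧ IsIso (g ∣_ V) := by
  have hres : Function.Bijective (g.residueFieldMap (genericPoint A)).hom := by
    refine ⟨(g.residueFieldMap _).hom.injective, fun k => ?_⟩
    obtain ⟨b, rfl⟩ := A.residue_surjective (genericPoint A) k
    obtain ⟨a, rfl⟩ := h.2.2 b
    exact ⟨B.residue _ a, congr($(Scheme.residue_residueFieldMap g (genericPoint A)) a)⟩
  haveI : IsIso (g.residueFieldMap (genericPoint A)) := (ConcreteCategory.isIso_iff_bijective _).2 hres
  let s : Spec (B.residueField (g (genericPoint A))) ⟶ A :=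
    Spec.map (inv (g.residueFieldMap (genericPoint A))) ≫ A.fromSpecResidueField (genericPoint A)
  have hs : s ≫ g = 𝟙 _ ≫ B.fromSpecResidueField (g (genericPoint A)) := by
    rw [Category.assoc, ← g.SpecMap_residueFieldMap_fromSpecResidueField, ← Category.assoc, ← Spec.map_comp,
      IsIso.hom_inv_id, Spec.map_id]
  let σ : Spec (B.residueField (g (genericPoint A))) ⟶ g.fiber (g (genericPoint A)) := pullback.lift s (𝟙 _) hs
  haveI : IsClosedImmersion σ := by
    haveI : IsClosedImmersion (σ ≫ pullback.snd g (B.fromSpecResidueField (g (genericPoint A)))) := by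
      rw [pullback.lift_snd]; infer_instance
    haveI : IsSeparated (pullback.snd g (B.fromSpecResidueField (g (genericPoint A)))) :=
      MorphismProperty.pullback_snd g _ inferInstance
    exact IsClosedImmersion.of_comp σ (pullback.snd g (B.fromSpecResidueField (g (genericPoint A))))
  obtain ⟨pt, hpt⟩ : ∃ pt, pt = σ (closedPoint _) := ⟨_, rfl⟩
  have hptc : IsClosed ({pt} : Set (g.fiber (g (genericPoint A)))) := by
    have : Set.range σ = {pt} := by
      refine Set.eq_singleton_iff_unique_mem.2 ⟨hpt ▸ ⟨_, rfl⟩, ?_⟩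
      rintro _ ⟨a, rfl⟩
      rw [hpt, Subsingleton.elim a (closedPoint _)]
    rw [← this]
    exact σ.isClosedEmbedding.isClosed_range
  have hι : g.fiberι (g (genericPoint A)) pt = genericPoint A := by
    rw [hpt, ← Scheme.Hom.comp_apply]
    show (pullback.lift s (𝟙 _) hs ≫ pullback.fst g (B.fromSpecResidueField (g (genericPoint A)))) _ = _
    rw [pullback.lift_fst, Scheme.Hom.comp_apply]
    exact Scheme.fromSpecResidueField_apply _ _
  haveI : Subsingleton ↥(g.fiber (g (genericPoint A))) := by
    have hall : ∀ c, c = pt := fun c => by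
      have h1 : pt ⤳ c := by
        refine (g.fiberι _).isEmbedding.isInducing.specializes_iff.1 ?_
        rw [hι]
        exact genericPoint_specializes _
      exact h1.mem_closed hptc (Set.mem_singleton pt)
    exact ⟨fun a b => (hall a).trans (hall b).symm⟩
  haveI : IsIntegrallyClosed (B.presheaf.stalk (g (genericPoint A))) := by
    rw [h.1]
    exact inferInstanceAs (IsIntegrallyClosed B.functionField)
  obtain ⟨D, hD, hDi⟩ := GrothLib.Birat.exists_isIso_morphismRestrict g h.1 h.2 (genericPoint A)
    (Scheme.Hom.quasiFiniteAt_iff_isOpen_singleton_asFiber.2 (isOpen_discrete _))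
  exact ⟨D, ⟨_, hD⟩, hDi⟩

end GrothLib.NormBlow29
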