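import Groth.Agent.Lib.NormBlow29.Contracted
import Groth.Agent.Lib.NormDom29.Main
import Groth.Agent.Lib.RatSing29.CenteredHom
import Groth.Agent.Lib.CurveResol29.Basic

/-!
# Resolution by normalized blow-ups of a surface which has a resolution
-/

set_option autoImplicit false
set_option linter.all false
set_option backward.isDefEq.respectTransparency false

universe u

open CategoryTheory CategoryTheory.Limits AlgebraicGeometry TopologicalSpace IsLocalRing Opposite
open GrothLib.CartierDescent GrothLib.NormDom29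

noncomputable section

namespace GrothLib.NormBlow29

theorem isNormal_of_regular {Y : Scheme.{u}} [IsIntegral Y] (h : ∀ y : Y, IsRegularLocalRing (Y.presheaf.stalk y)) :
    Pi1.IsNormalScheme Y := fun y => by
  haveI := h y
  exact ⟨inferInstance, GrothLib.RegLoc.isIntegrallyClosed_of_isRegularLocalRing _⟩

/-- Contraction sequences over regular schemes are modifications by regular schemes. -/
theorem modification_of_contractionSeq {W Z : Scheme.{u}} {r : W ⟶ Z} (hr : Models.IsContractionSeq r) :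
    ∀ [IsNoetherian Z] [IsIntegral Z] (hreg : ∀ w : Z, IsRegularLocalRing (Z.presheaf.stalk w)),
    IsNoetherian W ∧ IsIntegral W ∧ IsProper r ∧ (∀ w : W, IsRegularLocalRing (W.presheaf.stalk w)) ∧
      ∃ V : Z.Opens, (V : Set Z).Nonempty ∧ IsIso (r ∣_ V) := by
  induction hr with
  | @iso A B e =>
    intro _ _ hreg
    haveI : Nonempty A := ⟨e.inv (genericPoint B)⟩
    haveI hA : IsIntegral A := isIntegral_of_isOpenImmersion e.hom
    have hregA : ∀ w : A, IsRegularLocalRing (A.presheaf.stalk w) := fun w => by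
      haveI := hreg (e.hom w)
      exact IsRegularLocalRing.of_ringEquiv (R := B.presheaf.stalk (e.hom w))
        (asIso (e.hom.stalkMap w)).commRingCatIsoToRingEquiv
    haveI : IsNoetherian A :=
      { toIsLocallyNoetherian := LocallyOfFiniteType.isLocallyNoetherian e.hom
        toCompactSpace := QuasiCompact.compactSpace_of_compactSpace e.hom }
    refine ⟨inferInstance, hA, inferInstance, hregA,
      ⊤, ⟨genericPoint B, trivial⟩, inferInstance⟩
  | @step A B D E ι b r hι hE hb hr ih =>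
    intro _ _ hreg
    obtain ⟨hBn, hBi, hrp, hBreg, V, hV, hVi⟩ := @ih _ _ hreg
    haveI := hBn; haveI := hBi; haveI := hrp
    obtain ⟨-, hbp, y, hy, -, hyreg, hd, hblow⟩ := hb
    haveI := hbp; haveI := hyreg
    haveI : IsNoetherian A :=
      { toIsLocallyNoetherian := LocallyOfFiniteType.isLocallyNoetherian b
        toCompactSpace := QuasiCompact.compactSpace_of_compactSpace b }
    refine ⟨inferInstance,
      GrothLib.ExcP1.integral_of_blowUp hy hd hblow, inferInstance,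
      GrothLib.ExcP1.regular_of_blowUp hBreg hy hd hblow, ?_⟩
    have hoff := GrothLib.BlowUp.isIso_off_center hblow
    obtain ⟨w, hw⟩ := hV
    haveI := hVi
    let C : B.Opens := ⟨{y}ᶜ, hy.isOpen_compl⟩
    -- an open of the base avoiding the image of the centre
    have hηV : genericPoint D ∈ V := (genericPoint_specializes w).mem_open V.isOpen hw
    have hry : IsClosed ({r y} : Set D) := by simpa using r.isClosedMap _ hy
    let V' : D.Opens := V ⊓ ⟨{r y}ᶜ, hry.isOpen_compl⟩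
    have hVy : genericPoint D ≠ r y := fun h => by
      obtain ⟨q, hq⟩ := (r ∣_ V).homeomorph.surjective ⟨genericPoint D, hηV⟩
      have hyV : r y ∈ V := h ▸ hηV
      haveI : IsIso (r.stalkMap y) :=
        ((MorphismProperty.isomorphisms CommRingCat).arrow_mk_iso_iff (morphismRestrictStalkMap r V ⟨y, hyV⟩)).1
          (show IsIso ((r ∣_ V).stalkMap ⟨y, hyV⟩) from inferInstance)
      have h1 := ringKrullDim_eq_of_ringEquiv (asIso (r.stalkMap y)).commRingCatIsoToRingEquiv
      have h2 : ringKrullDim (D.presheaf.stalk (r y)) = 0 := by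
        rw [← h]; exact ringKrullDim_eq_zero_of_field D.functionField
      have h3 : ringKrullDim (B.presheaf.stalk y) = 0 := h1.symm.trans h2
      rw [hd] at h3
      norm_num at h3
    refine ⟨V', ⟨genericPoint D, hηV, hVy⟩, ?_⟩
    haveI := GrothLib.Nagata6.isIso_restrict_of_le r V V' inf_le_left
    haveI : IsIso (b ∣_ (r ⁻¹ᵁ V')) := by
      haveI := hoff
      refine GrothLib.Nagata6.isIso_restrict_of_le b (Scheme.IdealSheafData.vanishingIdeal (⟨{y}, hy⟩ : Closeds B)).support.compl _ fun q hq => ?_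
      show q ∉ ((Scheme.IdealSheafData.vanishingIdeal (⟨{y}, hy⟩ : Closeds B)).support : Set B)
      rw [Scheme.IdealSheafData.coe_support_vanishingIdeal]
      intro hqy
      exact hq.2 (show r q = r y from congrArg r hqy)
    rw [morphismRestrict_comp]
    infer_instance

/-- A surface with a resolution has finite normalizations of modifications. -/
theorem hasFiniteNorm_of_resolution {S X : Scheme.{u}} [IsIntegral S] [IsNoetherian S]
    (hS : topologicalKrullDim S ≤ 2) [IsIntegral X] (g : X ⟶ S) [IsProper g]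
    (hbir : ∃ V : S.Opens, (V : Set S).Nonempty ∧ IsIso (g ∣_ V))
    (hreg : ∀ x : X, IsRegularLocalRing (X.presheaf.stalk x)) : HasFiniteNorm S := by
  intro Z _ _ _ b hb hbb
  haveI := hb
  haveI : IsLocallyNoetherian Z := LocallyOfFiniteType.isLocallyNoetherian b
  haveI : CompactSpace Z := QuasiCompact.compactSpace_of_compactSpace b
  haveI : IsNoetherian Z := {}
  haveI : IsLocallyNoetherian X := LocallyOfFiniteType.isLocallyNoetherian g
  haveI : CompactSpace X := QuasiCompact.compactSpace_of_compactSpace g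
  haveI : IsNoetherian X := {}
  obtain ⟨Vg, hVg, hVgi⟩ := hbir
  obtain ⟨Vb, hVb, hVbi⟩ := hbb
  haveI := hVgi; haveI := hVbi
  let V : S.Opens := Vg ⊓ Vb
  have hηV : genericPoint S ∈ V := ⟨genericPoint_mem hVg, genericPoint_mem hVb⟩
  haveI : IsIso (g ∣_ V) := GrothLib.Nagata6.isIso_restrict_of_le g Vg V inf_le_left
  haveI : IsIso (b ∣_ V) := GrothLib.Nagata6.isIso_restrict_of_le b Vb V inf_le_right
  obtain ⟨eg, -⟩ := GrothLib.ExcP1.birational_of_iso_over (f := g) Vg hVg
  let φ : ((g ⁻¹ᵁ V : X.Opens) : Scheme.{u}) ⟶ Z := (g ∣_ V) ≫ inv (b ∣_ V) ≫ (b ⁻¹ᵁ V).ι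
  have hne : ((g ⁻¹ᵁ V : X.Opens) : Set X).Nonempty :=
    ⟨genericPoint X, show g (genericPoint X) ∈ V from eg.symm ▸ hηV⟩
  have hφ : φ ≫ b = (g ⁻¹ᵁ V).ι ≫ g := by
    simp only [φ, Category.assoc]
    rw [← morphismRestrict_ι b, IsIso.inv_hom_id_assoc, morphismRestrict_ι]
  obtain ⟨W, r, h, hr, hh, -⟩ := GrothLib.ArSurf29.exists_seq_extend g b hreg
    (GrothLib.RatSing29.dim_le_of_birational g Vg hVg hVgi hS) (g ⁻¹ᵁ V) hne φ hφ
  obtain ⟨hWn, hWi, hrp, hWreg, hrb⟩ := modification_of_contractionSeq hr hreg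
  haveI := hWi; haveI := hrp
  haveI : IsProper h := by
    haveI : IsProper (h ≫ b) := by rw [hh]; infer_instance
    exact IsProper.of_comp h b
  obtain ⟨O, hO, hOi⟩ := GrothLib.RatSing29.exists_isIso_comp r g hrb ⟨Vg, hVg, hVgi⟩
  haveI : IsDominant h := by
    refine ⟨?_⟩
    haveI := hOi
    obtain ⟨eW, -⟩ := GrothLib.ExcP1.birational_of_iso_over (f := r ≫ g) O hO
    obtain ⟨eZ, -⟩ := GrothLib.ExcP1.birational_of_iso_over (f := b) Vb hVb
    have e : h (genericPoint W) = genericPoint Z := by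
      have h1 : b (h (genericPoint W)) = genericPoint S := by rw [← Scheme.Hom.comp_apply, hh, eW]
      exact GrothLib.ArSurf29.injective_over_open b Vb (h1 ▸ genericPoint_mem hVb) (h1.trans eZ.symm)
    refine dense_iff_closure_eq.2 (Set.eq_univ_of_univ_subset ?_)
    rw [← genericPoint_spec Z]
    exact closure_mono (Set.singleton_subset_iff.2 ⟨_, e⟩)
  exact GrothLib.CurveResol29.isFinite_normalizationι_of_alteration h hWreg

/-- A normalized blow-up as a stage, with its universal property. -/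
theorem exists_stage_blowUp {X : Scheme.{u}} [IsIntegral X] [IsNoetherian X]
    [QuasiCompact (X.fromSpecStalk (genericPoint X))] [QuasiSeparated (X.fromSpecStalk (genericPoint X))]
    (hF : HasFiniteNorm X) (hXη : ¬ IsClosed ({genericPoint X} : Set X))
    {W : Scheme.{u}} [IsIntegral W] {g : W ⟶ X} {r : W ⟶ Curv2.normalization X} (hst : IsStage g r) {z : W}
    (hz : IsClosed ({z} : Set W)) :
    ∃ (W' : Scheme.{u}) (π : W' ⟶ W) (r' : W' ⟶ Curv2.normalization X), IsStage (π ≫ g) r' ∧ IsProper π ∧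
      (∃ U : W.Opens, (U : Set W).Nonempty ∧ IsIso (π ∣_ U)) ∧
      _root_.BlowUp.IsEffCartierIdeal ((Scheme.IdealSheafData.vanishingIdeal ⟨{z}, hz⟩).comap π) ∧
      ∀ {T : Scheme.{u}} [IsIntegral T] (τ : T ⟶ W), Pi1.IsNormalScheme T → τ (genericPoint T) = genericPoint W →
        _root_.BlowUp.IsEffCartierIdeal ((Scheme.IdealSheafData.vanishingIdeal ⟨{z}, hz⟩).comap τ) →
        ∃ τ' : T ⟶ W', τ' ≫ π = τ := by
  haveI := hst.proper; haveI := hst.noeth
  have hzη : z ≠ genericPoint W := by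
    rintro rfl
    refine hXη ?_
    rw [← hst.apply_genericPoint, ← Set.image_singleton]
    exact g.isClosedMap _ hz
  set J := Scheme.IdealSheafData.vanishingIdeal (X := W) ⟨{z}, hz⟩ with hJdef
  have hJsupp : (J.support : Set W) = {z} := Scheme.IdealSheafData.coe_support_vanishingIdeal _
  have hU : genericPoint W ∈ J.support.compl := by
    show genericPoint W ∉ (J.support : Set W)
    rw [hJsupp]
    exact fun h0 => hzη h0.symm
  have hJbot : J ≠ ⊥ := fun h0 => hU (by rw [h0, Scheme.IdealSheafData.support_bot]; trivial)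
  obtain ⟨Z, b, hb⟩ := GrothLib.BlowUp.exists_isBlowUp W J
  obtain ⟨hZ, hgen, -⟩ := Groth.Agent.S2348.result J hJbot b hb
  haveI := hZ
  haveI : IsProper b := GrothLib.BlowUpProper.isProper_of_isBlowUp hb
  haveI : IsLocallyNoetherian Z := LocallyOfFiniteType.isLocallyNoetherian b
  haveI : CompactSpace Z := QuasiCompact.compactSpace_of_compactSpace b
  haveI : IsNoetherian Z := ⟨⟩
  haveI : QuasiCompact (Z.fromSpecStalk (genericPoint Z)) := inferInstance
  haveI : QuasiSeparated (Z.fromSpecStalk (genericPoint Z)) := inferInstance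
  have hfin := hF Z (b ≫ g) inferInstance (GrothLib.RatSing29.exists_isIso_comp b g
    ⟨J.support.compl, ⟨_, hU⟩, GrothLib.BlowUp.isIso_off_center hb⟩ hst.birat)
  haveI := hfin
  let ν := Curv2.normalizationι Z
  haveI : IsLocallyNoetherian (Curv2.normalization Z) := LocallyOfFiniteType.isLocallyNoetherian ν
  haveI : CompactSpace (Curv2.normalization Z) := QuasiCompact.compactSpace_of_compactSpace ν
  have hπb := GrothLib.RatSing29.exists_isIso_comp ν b (GrothLib.NormFib.exists_isIso_of_finite hfin)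
    ⟨J.support.compl, ⟨_, hU⟩, GrothLib.BlowUp.isIso_off_center hb⟩
  refine ⟨Curv2.normalization Z, ν ≫ b, ν ≫ b ≫ r, ?_, inferInstance, hπb, ?_, ?_⟩
  · refine ⟨by rw [Category.assoc, Category.assoc, Category.assoc, hst.comm], .step b r z hz hb hst.seq, ?_,
      inferInstance, ⟨⟩, GrothLib.NormFib.isNormalScheme_normalization, ?_⟩
    · rw [Category.assoc]
      infer_instance
    · exact GrothLib.RatSing29.exists_isIso_comp (ν ≫ b) g hπb hst.birat
  · rw [Scheme.IdealSheafData.comap_comp]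
    obtain ⟨V, hV, hVi⟩ := GrothLib.NormFib.exists_isIso_of_finite hfin
    haveI := hVi
    haveI := GrothLib.CurveResol29.isDominant_of_isIso_over ν V hV
    exact GrothLib.RatSing29.isEffCartierIdeal_comap_of_generic ν (GrothLib.CurveResol29.genericPoint_map' ν) hb.1
  intro T _ τ hTn hτη hJτ
  obtain ⟨σ, hσ, -⟩ := hb.2 T τ hJτ
  have hση : σ (genericPoint T) = genericPoint Z := by
    haveI := GrothLib.BlowUp.isIso_off_center hb
    have h1 : b (σ (genericPoint T)) = genericPoint W := by rw [← Scheme.Hom.comp_apply, hσ, hτη]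
    exact GrothLib.ArSurf29.injective_over_open b J.support.compl (h1 ▸ hU) (h1.trans hgen.symm)
  obtain ⟨τ', hτ', -⟩ := NormFac9.existsUnique_fac σ hTn fun t ht => by
    rw [irreducibleComponents_eq_singleton, Set.mem_singleton_iff] at ht
    rw [(isGenericPoint_def.2 ht).eq (genericPoint_spec T)]
    exact hση
  exact ⟨τ', by rw [reassoc_of% hτ', hσ]⟩

/-- A blown-up point leaves a curve uncontracted. -/
theorem exists_nonclosed_over {Y W' W : Scheme.{u}} [IsIntegral Y] [IsIntegral W'] [IsNoetherian W'] (q' : Y ⟶ W')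
    [IsProper q'] (hb : ∃ U : W'.Opens, (U : Set W').Nonempty ∧ IsIso (q' ∣_ U)) (hn : Pi1.IsNormalScheme W')
    (π : W' ⟶ W) {z : W} (hz : IsClosed ({z} : Set W))
    (hJ : _root_.BlowUp.IsEffCartierIdeal ((Scheme.IdealSheafData.vanishingIdeal ⟨{z}, hz⟩).comap π))
    {v : Y} (hv : v ∈ GrothLib.ExcP1.curvesOver q') (hvz : π (q' v) = z) :
    ∃ t : W', ¬ IsClosed ({t} : Set W') ∧ π t = z := by
  set J' := (Scheme.IdealSheafData.vanishingIdeal ⟨{z}, hz⟩).comap π with hJ'
  have hsupp : ∀ t : W', t ∈ (J'.support : Set W') ↔ π t = z := fun t => by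
    rw [hJ', Scheme.IdealSheafData.support_comap]
    show π t ∈ ((Scheme.IdealSheafData.vanishingIdeal ⟨{z}, hz⟩).support : Set W) ↔ _
    rw [Scheme.IdealSheafData.coe_support_vanishingIdeal]
    exact Set.mem_singleton_iff
  set t := q' v with ht
  have htc : IsClosed ({t} : Set W') := hv.2
  obtain ⟨γ, hγ, hγe⟩ := exists_stalk_generator hJ t
  haveI := (hn t).1
  have hγu : ¬ IsUnit γ := fun hu => by
    have h := (stalkIdeal_eq_top_iff J' t).1 (by rw [hγe]; exact Ideal.span_singleton_eq_top.2 hu)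
    exact h ((hsupp t).2 hvz)
  have hdim := two_le_dim_of_contracted q' hb hv (hn _).2
  obtain ⟨P, hP⟩ := Ideal.nonempty_minimalPrimes (I := Ideal.span {γ}) (fun h => hγu (Ideal.span_singleton_eq_top.1 h))
  haveI : P.IsPrime := hP.1.1
  have hPm : P ≠ maximalIdeal (W'.presheaf.stalk t) := by
    intro hPe
    have h1 := Ideal.height_le_one_of_isPrincipal_of_mem_minimalPrimes (Ideal.span {γ}) P hP
    rw [hPe] at h1
    refine hdim ?_
    rw [← IsLocalRing.maximalIdeal_height_eq_ringKrullDim]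
    exact_mod_cast h1
  obtain ⟨t', ht', hPt, ht'e⟩ := exists_specializes_eq t P
  refine ⟨t', fun hc => hPm ?_, (hsupp t').1 ?_⟩
  · have hte : t = t' := by
      have := hc.closure_subset (specializes_iff_mem_closure.1 ht')
      exact this
    have e : (⟨P, inferInstance⟩ : PrimeSpectrum (W'.presheaf.stalk t)) = closedPoint (W'.presheaf.stalk t) :=
      (W'.fromSpecStalk t).isEmbedding.injective (by rw [Scheme.fromSpecStalk_closedPoint, ← ht'e, hte])
    exact congrArg PrimeSpectrum.asIdeal e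
  · by_contra hns
    have h := (stalkIdeal_eq_top_iff J' t').2 hns
    rw [← stalkIdeal_map_specializes J' ht', hγe, Ideal.map_span, Set.image_singleton, Ideal.span_singleton_eq_top] at h
    have hγP : γ ∈ P := hP.1.2 (Ideal.mem_span_singleton_self γ)
    rw [hPt] at hγP
    exact (IsLocalRing.mem_maximalIdeal _).1 (Ideal.mem_comap.1 hγP) h

/-- The ideal of a point with a contracted curve pulls back to an invertible ideal. -/
theorem isEffCartierIdeal_comap {X W Y : Scheme.{u}} [IsIntegral X] [IsNoetherian X]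
    (hXreg : ∀ x : X, IsRegularLocalRing (X.presheaf.stalk x)) (hXd : topologicalKrullDim X ≤ 2)
    [IsIntegral W] [IsNoetherian W] (hWn : Pi1.IsNormalScheme W) (h : W ⟶ X) [IsProper h]
    (hhb : ∃ U : X.Opens, (U : Set X).Nonempty ∧ IsIso (h ∣_ U))
    [IsIntegral Y] [IsNoetherian Y] (hYreg : ∀ y : Y, IsRegularLocalRing (Y.presheaf.stalk y)) (q : Y ⟶ W) [IsProper q]
    (hqb : ∃ U : W.Opens, (U : Set W).Nonempty ∧ IsIso (q ∣_ U))
    {v : Y} (hv : v ∈ GrothLib.ExcP1.curvesOver q) (hwη : q v ≠ genericPoint W) :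
    _root_.BlowUp.IsEffCartierIdeal ((Scheme.IdealSheafData.vanishingIdeal ⟨{q v}, hv.2⟩).comap q) := by
  set I := (Scheme.IdealSheafData.vanishingIdeal ⟨{q v}, hv.2⟩).comap q with hI
  have hsupp : ∀ y : Y, y ∈ (I.support : Set Y) ↔ q y = q v := fun y => by
    rw [hI, Scheme.IdealSheafData.support_comap]
    show q y ∈ ((Scheme.IdealSheafData.vanishingIdeal ⟨{q v}, hv.2⟩).support : Set W) ↔ _
    rw [Scheme.IdealSheafData.coe_support_vanishingIdeal]
    exact Set.mem_singleton_iff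
  obtain ⟨Uq, hUq, hUqi⟩ := hqb
  haveI := hUqi
  obtain ⟨eq, -⟩ := GrothLib.ExcP1.birational_of_iso_over (f := q) Uq hUq
  have hηI : genericPoint Y ∉ (I.support : Set Y) := fun hm => hwη (((hsupp _).1 hm).symm.trans eq)
  obtain ⟨Uh, hUh, hUhi⟩ := hhb
  obtain ⟨U2, hU2, hU2i⟩ := GrothLib.RatSing29.exists_isIso_comp q h ⟨Uq, hUq, hUqi⟩ ⟨Uh, hUh, hUhi⟩
  have hYd := GrothLib.RatSing29.dim_le_of_birational (q ≫ h) U2 hU2 hU2i hXd
  refine GrothLib.ArSurf29.isEffCartierIdeal_of_stalks I fun y => ?_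
  haveI := hYreg y
  have hne0 : stalkIdeal I y ≠ ⊥ := fun h0 => hηI (by
    by_contra hns
    have h := (stalkIdeal_eq_top_iff I _).2 hns
    rw [← stalkIdeal_map_specializes I (genericPoint_specializes y), h0, Ideal.map_bot] at h
    exact bot_ne_top h)
  suffices hp : (stalkIdeal I y).IsPrincipal by
    obtain ⟨γ, hγ⟩ := hp.principal
    exact ⟨γ, fun h0 => hne0 (hγ.trans ((congrArg (fun a => Ideal.span {a}) h0).trans Ideal.span_zero)), hγ⟩
  by_cases hy : q y = q v
  swap
  · rw [(stalkIdeal_eq_top_iff I y).2 fun hm => hy ((hsupp y).1 hm)]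
    exact top_isPrincipal
  by_cases hyc : IsClosed ({y} : Set Y)
  · exact isPrincipal_stalk_comap hXreg hXd hWn h ⟨Uh, hUh, hUhi⟩ hYreg q ⟨Uq, hUq, hUqi⟩ hv hyc hy
  · obtain ⟨c, hc, hcl⟩ := GrothLib.ArSurf29.exists_isClosed_specialization y
    have hne : y ≠ c := fun e => hyc (e ▸ hcl)
    have hyη : y ≠ genericPoint Y := fun e => hwη (by rw [← hy, e, eq])
    haveI := GrothLib.RatSing29.isDiscreteValuationRing_stalk_of_curve hYd hc hne hyη
      (GrothLib.RegLoc.isIntegrallyClosed_of_isRegularLocalRing _)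
    exact IsPrincipalIdealRing.principal _

set_option maxHeartbeats 800000 in
/-- **A surface with a resolution is resolved by normalized blow-ups.** -/
theorem exists_stage_regular {S X : Scheme.{u}} [IsIntegral S] [IsNoetherian S] (hS : topologicalKrullDim S = 2)
    [QuasiCompact (S.fromSpecStalk (genericPoint S))] [QuasiSeparated (S.fromSpecStalk (genericPoint S))]
    [IsIntegral X] (f : X ⟶ S) [IsProper f]
    (hbir : ∃ V : S.Opens, (V : Set S).Nonempty ∧ IsIso (f ∣_ V))
    (hreg : ∀ x : X, IsRegularLocalRing (X.presheaf.stalk x)) :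
    ∃ (W : Scheme.{u}) (g : W ⟶ S) (r : W ⟶ Curv2.normalization S), IsStage g r ∧
      ∀ x : W, IsRegularLocalRing (W.presheaf.stalk x) := by
  have hF := hasFiniteNorm_of_resolution hS.le f hbir hreg
  have hSη := not_isClosed_generic hS
  obtain ⟨W₀, g₀, r₀, hst₀, h₀, hh₀⟩ := exists_stage_dominate hF hS f hbir
  haveI : IsLocallyNoetherian X := LocallyOfFiniteType.isLocallyNoetherian f
  haveI : CompactSpace X := QuasiCompact.compactSpace_of_compactSpace f
  haveI : IsNoetherian X := {}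
  obtain ⟨Vf, hVf, hVfi⟩ := hbir
  haveI := hVfi
  have hXd := GrothLib.RatSing29.dim_le_of_birational f Vf hVf hVfi hS.le
  obtain ⟨ef, -⟩ := GrothLib.ExcP1.birational_of_iso_over (f := f) Vf hVf
  haveI := hst₀.integral; haveI := hst₀.proper; haveI := hst₀.noeth
  haveI : IsProper h₀ := by
    haveI : IsProper (h₀ ≫ f) := by rw [hh₀]; infer_instance
    exact IsProper.of_comp h₀ f
  have hh₀b : ∃ U : X.Opens, (U : Set X).Nonempty ∧ IsIso (h₀ ∣_ U) := by
    obtain ⟨Vg, hVg, hVgi⟩ := hst₀.birat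
    let Ω : S.Opens := Vf ⊓ Vg
    haveI hfO : IsIso (f ∣_ Ω) := GrothLib.Nagata6.isIso_restrict_of_le f Vf Ω inf_le_left
    haveI := hVgi
    have hgO : IsIso (g₀ ∣_ Ω) := GrothLib.Nagata6.isIso_restrict_of_le g₀ Vg Ω inf_le_right
    refine ⟨f ⁻¹ᵁ Ω, ⟨genericPoint X, ?_⟩, ?_⟩
    · show f (genericPoint X) ∈ Ω
      rw [ef]
      exact ⟨genericPoint_mem hVf, genericPoint_mem hVg⟩
    · have h1 := hgO
      rw [← hh₀, morphismRestrict_comp] at h1
      haveI := h1
      exact @IsIso.of_isIso_comp_right _ _ _ _ _ (h₀ ∣_ (f ⁻¹ᵁ Ω)) (f ∣_ Ω) hfO h1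
  obtain ⟨Uh, hUh, hUhi⟩ := hh₀b
  haveI := hUhi
  obtain ⟨eh₀, -⟩ := GrothLib.ExcP1.birational_of_iso_over (f := h₀) Uh hUh
  let φ : (Uh : Scheme.{u}) ⟶ W₀ := inv (h₀ ∣_ Uh) ≫ (h₀ ⁻¹ᵁ Uh).ι
  have hφ : φ ≫ h₀ = Uh.ι ≫ 𝟙 X := by
    simp only [φ, Category.assoc, Category.comp_id]
    rw [← morphismRestrict_ι h₀, IsIso.inv_hom_id_assoc]
  obtain ⟨Y, r, q₀, hr, hq₀, -⟩ := GrothLib.ArSurf29.exists_seq_extend (𝟙 X) h₀ hreg hXd Uh hUh φ hφ
  rw [Category.comp_id] at hq₀
  obtain ⟨hYn, hYi, hrp, hYreg, hrb⟩ := modification_of_contractionSeq hr hreg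
  haveI := hYn; haveI := hYi; haveI := hrp
  obtain ⟨Ur, hUr, hUri⟩ := hrb
  haveI := hUri
  have hYd := GrothLib.RatSing29.dim_le_of_birational r Ur hUr hUri hXd
  obtain ⟨er, -⟩ := GrothLib.ExcP1.birational_of_iso_over (f := r) Ur hUr
  suffices key : ∀ n : ℕ, ∀ (W : Scheme.{u}) (g : W ⟶ S) (rW : W ⟶ Curv2.normalization S) (h : W ⟶ X) (q : Y ⟶ W),
      IsStage g rW → IsProper h → (∃ U : X.Opens, (U : Set X).Nonempty ∧ IsIso (h ∣_ U)) → q ≫ h = r →
      (GrothLib.ExcP1.curvesOver q).ncard ≤ n →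
      ∃ (W : Scheme.{u}) (g : W ⟶ S) (r : W ⟶ Curv2.normalization S), IsStage g r ∧
        ∀ x : W, IsRegularLocalRing (W.presheaf.stalk x) by
    exact key _ W₀ g₀ r₀ h₀ q₀ hst₀ inferInstance ⟨Uh, hUh, hUhi⟩ hq₀ le_rfl
  intro n
  induction n using Nat.strong_induction_on with
  | _ n ih =>
  intro W g rW h q hst hhp hhb hqh hn
  haveI := hhp; haveI := hst.integral; haveI := hst.proper; haveI := hst.noeth
  haveI : IsProper q := by
    haveI : IsProper (q ≫ h) := by rw [hqh]; infer_instance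
    exact IsProper.of_comp q h
  obtain ⟨U1, hU1, hU1i⟩ := hhb
  haveI := hU1i
  obtain ⟨eh, -⟩ := GrothLib.ExcP1.birational_of_iso_over (f := h) U1 hU1
  let Ω : X.Opens := U1 ⊓ Ur
  haveI hhO : IsIso (h ∣_ Ω) := GrothLib.Nagata6.isIso_restrict_of_le h U1 Ω inf_le_left
  have hrO : IsIso (r ∣_ Ω) := GrothLib.Nagata6.isIso_restrict_of_le r Ur Ω inf_le_right
  have hqO : IsIso (q ∣_ (h ⁻¹ᵁ Ω)) := by
    have h1 := hrO
    rw [← hqh, morphismRestrict_comp] at h1
    haveI := h1
    exact @IsIso.of_isIso_comp_right _ _ _ _ _ (q ∣_ (h ⁻¹ᵁ Ω)) (h ∣_ Ω) hhO h1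
  haveI := hqO
  have hΩne : ((h ⁻¹ᵁ Ω : W.Opens) : Set W).Nonempty := by
    refine ⟨genericPoint W, ?_⟩
    show h (genericPoint W) ∈ Ω
    rw [eh]
    exact ⟨genericPoint_mem hU1, genericPoint_mem hUr⟩
  obtain ⟨eqg, -⟩ := GrothLib.ExcP1.birational_of_iso_over (f := q) (h ⁻¹ᵁ Ω) hΩne
  by_cases h0 : GrothLib.ExcP1.curvesOver q = ∅
  · haveI : IsIso q := GrothLib.ExcP1.isIso_of_no_curves hYd (h ⁻¹ᵁ Ω) hΩne (fun w => (hst.normal w).2) h0
    refine ⟨W, g, rW, hst, fun x => ?_⟩
    haveI := hYreg ((inv q) x)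
    exact IsRegularLocalRing.of_ringEquiv (R := Y.presheaf.stalk ((inv q) x))
      (asIso ((inv q).stalkMap x)).commRingCatIsoToRingEquiv
  obtain ⟨v, hv⟩ := Set.nonempty_iff_ne_empty.2 h0
  have hwη : q v ≠ genericPoint W := fun e => hSη (by
    rw [← hst.apply_genericPoint, ← e, ← Set.image_singleton]
    exact g.isClosedMap _ hv.2)
  have hJq := isEffCartierIdeal_comap hreg hXd hst.normal h ⟨U1, hU1, hU1i⟩ hYreg q
    ⟨h ⁻¹ᵁ Ω, hΩne, hqO⟩ hv hwη
  obtain ⟨W', π, r', hst', hπp, hπb, hJπ, huniv⟩ := exists_stage_blowUp hF hSη hst hv.2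
  haveI := hπp; haveI := hst'.integral; haveI := hst'.noeth
  obtain ⟨q', hq'⟩ := huniv q (isNormal_of_regular hYreg) eqg hJq
  have hh'b := GrothLib.RatSing29.exists_isIso_comp π h hπb ⟨U1, hU1, hU1i⟩
  have hq'h : q' ≫ π ≫ h = r := by rw [reassoc_of% hq', hqh]
  have hsub : GrothLib.ExcP1.curvesOver q' ⊆ GrothLib.ExcP1.curvesOver q := fun u hu => ⟨hu.1, by
    rw [← hq', Scheme.Hom.comp_apply, ← Set.image_singleton]
    exact π.isClosedMap _ hu.2⟩
  have hfin : (GrothLib.ExcP1.curvesOver q).Finite := GrothLib.ExcP1.finite_curvesOver hYd (h ⁻¹ᵁ Ω) hΩne eqg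
  have hlt : (GrothLib.ExcP1.curvesOver q').ncard < (GrothLib.ExcP1.curvesOver q).ncard := by
    refine Set.ncard_lt_ncard (hsub.ssubset_of_ne fun he => ?_) hfin
    haveI : IsProper q' := by
      haveI : IsProper (q' ≫ π) := by rw [hq']; infer_instance
      exact IsProper.of_comp q' π
    obtain ⟨Uπ, hUπ, hUπi⟩ := hπb
    haveI := hUπi
    obtain ⟨eπ, -⟩ := GrothLib.ExcP1.birational_of_iso_over (f := π) Uπ hUπ
    let Ω' : W.Opens := Uπ ⊓ h ⁻¹ᵁ Ω
    haveI hπO : IsIso (π ∣_ Ω') := GrothLib.Nagata6.isIso_restrict_of_le π Uπ Ω' inf_le_left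
    have hqO' : IsIso (q ∣_ Ω') := GrothLib.Nagata6.isIso_restrict_of_le q (h ⁻¹ᵁ Ω) Ω' inf_le_right
    have hηΩ : genericPoint W ∈ Ω' := ⟨genericPoint_mem hUπ, genericPoint_mem hΩne⟩
    have hq'b : IsIso (q' ∣_ (π ⁻¹ᵁ Ω')) := by
      have h1 := hqO'
      rw [← hq', morphismRestrict_comp] at h1
      haveI := h1
      exact @IsIso.of_isIso_comp_right _ _ _ _ _ (q' ∣_ (π ⁻¹ᵁ Ω')) (π ∣_ Ω') hπO h1
    have hne' : ((π ⁻¹ᵁ Ω' : W'.Opens) : Set W').Nonempty :=
      ⟨genericPoint W', show π (genericPoint W') ∈ Ω' from eπ.symm ▸ hηΩ⟩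
    have hv' : v ∈ GrothLib.ExcP1.curvesOver q' := he.symm ▸ hv
    obtain ⟨t, htc, htw⟩ := exists_nonclosed_over q' ⟨_, hne', hq'b⟩ hst'.normal π hv.2 hJπ hv'
      (by rw [← Scheme.Hom.comp_apply, hq'])
    obtain ⟨u, rfl⟩ : t ∈ Set.range q' := by
      haveI := hq'b
      haveI := GrothLib.CurveResol29.isDominant_of_isIso_over q' _ hne'
      have h1 := q'.isClosedMap.isClosed_range.closure_eq
      rw [q'.denseRange.closure_range] at h1
      exact h1 ▸ Set.mem_univ t
    have hu : u ∈ GrothLib.ExcP1.curvesOver q := ⟨fun hc => htc (by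
      rw [← Set.image_singleton]; exact q'.isClosedMap _ hc), by
      rw [← hq', Scheme.Hom.comp_apply, htw]; exact hv.2⟩
    exact htc (he.symm ▸ hu : u ∈ GrothLib.ExcP1.curvesOver q').2
  exact ih _ (hlt.trans_le hn) W' (π ≫ g) r' (π ≫ h) q' hst' inferInstance hh'b hq'h le_rfl

end GrothLib.NormBlow29
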